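import Cfsg.Agent.Lib.Linear.OrthDegree.Odd.Lift

/-!
# Full representations in dimension five
-/

set_option autoImplicit false

namespace Cfsg.Lib.Linear.OrthDeg

open Module Cfsg.Lib.Linear.Orth Cfsg.Lib.Linear.MinIndexOrth Cfsg.Lib.OrthMult
open scoped Matrix Classical

variable {ι : Type} [Fintype ι] [DecidableEq ι] {F : Type*} [Field F] [Fintype F]
  {Q : (ι → F) → F} {B : LinearMap.BilinForm F (ι → F)}
  {V : Type*} [AddCommGroup V] [Module ℂ V] [FiniteDimensional ℂ V]

theorem sum_mult_le (C : Space Q B) {e f : ι → F} (H : Hyp Q B ⊤ e f)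
    (ρ : Representation ℂ ↥(Root Q B ⊤) V) (S : Finset (X B e f)) :
    ∑ v ∈ S, mult C H ρ v ≤ finrank ℂ V := by
  rw [← sum_mult C H ρ]
  exact Finset.sum_le_sum_of_subset (Finset.subset_univ S)

/-- The number of non-zero singular vectors in the space of parameters in odd dimension. -/
theorem card_orb_odd (C : Space Q B) (h2 : (2 : F) ≠ 0) {e f : ι → F} (H : Hyp Q B ⊤ e f) {r : ℕ}
    (hX : finrank F (X B e f) = 2 * r + 1) :
    ((orb Q B e f (0 : F)).card : ℤ) = (Nat.card F : ℤ) ^ (2 * r) - 1 := by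
  rw [card_orb C, level_odd C r (X_ndeg C H) hX h2, del_zero]
  push_cast
  rfl

theorem five_bound (C : Space Q B) (h2 : (2 : F) ≠ 0) (hq : 4 ≤ Fintype.card F) (hd : Fintype.card ι = 5)
    (ρ : Representation ℂ ↥(Root Q B ⊤) V) (hF : Full C ρ) :
    Nat.card F ^ 2 + 1 ≤ finrank ℂ V := by
  by_contra hlt
  push Not at hlt
  haveI := Fintype.ofFinite ↥(Root Q B ⊤)
  have h5 : 5 ≤ Fintype.card ι := by omega
  have hX : ∀ {e f : ι → F}, Hyp Q B ⊤ e f → finrank F (X B e f) = 2 * 1 + 1 := fun H => by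
    have := finrank_X C H; omega
  obtain ⟨μ, hμ0, hμ⟩ := exists_mu hq
  have hge : ∀ {e f : ι → F} (H : Hyp Q B ⊤ e f), ∀ v ∈ orb Q B e f (0 : F), 1 ≤ mult C H ρ v :=
    fun H v hv => Nat.one_le_iff_ne_zero.mpr (hF _ _ H v (mem_orb.mp hv).1 (mem_orb.mp hv).2)
  have hO : ∀ {e f : ι → F}, Hyp Q B ⊤ e f → (orb Q B e f (0 : F)).card + 1 = Nat.card F ^ 2 := fun {e f} H => by
    have h1 := card_orb_odd C h2 H (hX H)
    rw [show 2 * 1 = 2 from rfl] at h1
    have h3 : (((orb Q B e f (0 : F)).card + 1 : ℕ) : ℤ) = ((Nat.card F ^ 2 : ℕ) : ℤ) := by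
      push_cast; linarith
    exact_mod_cast h3
  -- only singular weights
  have hS : SingW C ρ := fun e f H v hQv => by
    by_contra hm
    obtain ⟨p, g, Hp⟩ := exists_hyp' C (X_ndeg C H) (by rw [hX H])
    obtain ⟨v', hQ', hm'⟩ := scaled_weight C ρ H Hp h5 hμ0 v
    have hne : v' ≠ v := fun h => hμ (by
      rw [h] at hQ'
      exact mul_right_cancel₀ hQv (by linear_combination -hQ'))
    have hv' : v' ∉ orb Q B e f (0 : F) := fun h => by
      have := (mem_orb.mp h).2
      rw [hQ', mul_eq_zero] at this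
      exact this.elim (pow_ne_zero 2 hμ0) hQv
    have hv : v ∉ orb Q B e f (0 : F) := fun h => hQv (mem_orb.mp h).2
    have h1 := sum_mult_le C H ρ (insert v' (insert v (orb Q B e f (0 : F))))
    rw [Finset.sum_insert (by simp [hne, hv']), Finset.sum_insert hv, hm'] at h1
    have h3 : (orb Q B e f (0 : F)).card ≤ ∑ u ∈ orb Q B e f (0 : F), mult C H ρ u := by
      rw [Finset.card_eq_sum_ones]; exact Finset.sum_le_sum (hge H)
    have := hO H
    omega
  -- multiplicity one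
  have hM : ∀ (e f : ι → F) (H : Hyp Q B ⊤ e f) (v : X B e f), v ≠ 0 → Q v.1 = 0 → mult C H ρ v = 1 := by
    intro e f H v hv hQv
    refine le_antisymm ?_ (Nat.one_le_iff_ne_zero.mpr (hF e f H v hv hQv))
    by_contra h
    push Not at h
    have hv0 : v.1 ≠ 0 := fun h0 => hv (Subtype.ext h0)
    obtain ⟨g', Hv, -, -⟩ := exists_partner C (X_ndeg C H) v.2 (Submodule.zero_mem _) (Submodule.zero_mem _)
      hQv (map_zero _) (map_zero _) (by simpa using hv0)
    have hd' := finrank_step C Hv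
    obtain ⟨w, hw, hQw, -⟩ := exists_line C (Hv.ndeg C (X_ndeg C H)) (by have := hX H; omega)
    obtain ⟨hwX, hvw, hgw⟩ := mem_perp2.mp hw
    have hm : sGL Q B g' w ∈ Root Q B (X B e f) := sGL_mem_root Hv.memF hwX Hv.singF hgw
    set v' : X B e f := ⟨(sGL Q B g' w).val *ᵥ v.1, root_mem_U C hm v.2⟩ with hv'
    have hne : v' ≠ v := fun h0 => by
      have h1 := congrArg (fun z : X B e f => B v.1 z.1) h0
      simp [hv', sGL_act C Hv.singF hgw, C.self_zero Hv.singE, Hv.pair, Hv.pair' C, hvw, C.symm w v.1, hQw] at h1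
    have hv'm : mult C H ρ v' = mult C H ρ v :=
      mult_act C H ρ (g := ⟨_, root_mono le_top hm⟩) (c := 1) one_ne_zero
        (by rw [one_smul]; exact (root_fix C H hm).1) (by rw [inv_one, one_smul]; exact (root_fix C H hm).2)
        (by rw [inv_one, one_smul])
    have hmv : v ∈ orb Q B e f (0 : F) := mem_orb.mpr ⟨hv, hQv⟩
    have hmv' : v' ∈ (orb Q B e f (0 : F)).erase v := Finset.mem_erase.mpr ⟨hne, mem_orb.mpr
      ⟨fun h0 => act_ne_zero hv0 (congrArg Subtype.val h0), by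
        show Q ((sGL Q B g' w).val *ᵥ v.1) = 0
        rw [mem_iso.mp (root_le_iso C _ hm), hQv]⟩⟩
    have h1 := sum_mult_le C H ρ (orb Q B e f (0 : F))
    rw [← Finset.add_sum_erase _ _ hmv, ← Finset.add_sum_erase _ _ hmv', hv'm] at h1
    have h3 : (((orb Q B e f (0 : F)).erase v).erase v').card ≤
        ∑ u ∈ ((orb Q B e f (0 : F)).erase v).erase v', mult C H ρ u := by
      rw [Finset.card_eq_sum_ones]
      exact Finset.sum_le_sum fun u hu => hge H u (Finset.mem_of_mem_erase (Finset.mem_of_mem_erase hu))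
    rw [Finset.card_erase_of_mem hmv', Finset.card_erase_of_mem hmv] at h3
    have := hO H
    omega
  obtain ⟨e, f, H⟩ := exists_hyp' C C.ndeg_top (by rw [finrank_top, finrank_fintype_fun_eq_card]; omega)
  have hXe := hX H
  obtain ⟨p, g, Hp⟩ := exists_hyp' C (X_ndeg C H) (by rw [hXe])
  have hd1 := finrank_step C Hp
  obtain ⟨w, hw, hQw, hle⟩ := exists_line C (Hp.ndeg C (X_ndeg C H)) (by omega)
  obtain ⟨hwX, hpw, hgw⟩ := mem_perp2.mp hw
  obtain ⟨ν, hν⟩ := FiniteField.exists_nonsquare (F := F) (fun h => h2 (by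
    haveI := ringChar.charP F
    have := CharP.cast_eq_zero F (ringChar F)
    rw [h] at this
    exact_mod_cast this))
  have hν0 : ν ≠ 0 := fun h => hν (by rw [h]; exact IsSquare.zero)
  have Hn : Hyp Q B (X B e f) (ν • p) (ν⁻¹ • g) :=
    ⟨Submodule.smul_mem _ _ Hp.memE, Submodule.smul_mem _ _ Hp.memF, by rw [C.smul, Hp.singE, mul_zero],
      by rw [C.smul, Hp.singF, mul_zero], by
        rw [map_smul, LinearMap.map_smul₂, Hp.pair, smul_eq_mul, smul_eq_mul]; field_simp⟩
  have hone := hM e f H ⟨p, Hp.memE⟩ (fun h => (Hyp.ne_zero C Hp).1 (congrArg Subtype.val h)) Hp.singE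
  have honen := hM e f H ⟨ν • p, Hn.memE⟩ (fun h => (Hyp.ne_zero C Hn).1 (congrArg Subtype.val h)) Hn.singE
  obtain ⟨xA, hxA0, hxA⟩ := exists_in_weight C ρ H (v := ⟨p, Hp.memE⟩) (by rw [hone]; exact one_ne_zero)
  obtain ⟨xB, hxB0, hxB⟩ := exists_in_weight C ρ H (v := ⟨ν • p, Hn.memE⟩) (by rw [honen]; exact one_ne_zero)
  obtain ⟨hA, hA0⟩ := orbSum_weight C ρ H h2 hq h5 hXe Hp hone hxA hxA0
  obtain ⟨hB, hB0⟩ := orbSum_weight C ρ H h2 hq h5 hXe Hn honen hxB hxB0
  -- the two orbits differ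
  have hAB : wproj C H ρ ⟨p, Hp.memE⟩ (orbSum ρ e f xB) = 0 := by
    rw [proj_orbSum C ρ H Hn xB hxB, Finset.sum_eq_zero fun h hh => ?_]
    exfalso
    have hp := (Finset.mem_filter.mp hh).2
    simp only [Matrix.mulVec_smul] at hp
    have hperp : ∀ x, B p x = 0 → B g x = 0 → B w x = 0 → (h : GL ι F).val *ᵥ x = x := fun x xp xg xw => by
      set x1 := x - B f x • e - B e x • f with hx1
      have hx1m : x1 ∈ perp2 B (X B e f) p g := mem_perp2.mpr ⟨H.proj C trivial,
        by simp [hx1, xp, C.symm p e, C.symm p f, X.left Hp.memE, X.right Hp.memE],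
        by simp [hx1, xg, C.symm g e, C.symm g f, X.left Hp.memF, X.right Hp.memF]⟩
      obtain ⟨t, ht⟩ := Submodule.mem_span_singleton.mp (hle hx1m)
      have hww : B w w ≠ 0 := by rw [C.self]; exact mul_ne_zero h2 hQw
      have h1 : B w x1 = 0 := by simp [hx1, xw, C.symm w e, C.symm w f, X.left hwX, X.right hwX]
      rw [← ht, map_smul, smul_eq_mul] at h1
      rw [(mul_eq_zero.mp h1).resolve_right hww, zero_smul, hx1, sub_sub, eq_comm, sub_eq_zero] at ht
      obtain ⟨he, hf⟩ := root_fix C H h.2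
      rw [ht, Matrix.mulVec_add, Matrix.mulVec_smul, Matrix.mulVec_smul, he, hf]
    have hp' : (h : GL ι F).val *ᵥ p = ν⁻¹ • p := by
      have h1 := congrArg (fun z => ν⁻¹ • z) hp
      simp only [smul_smul, inv_mul_cancel₀ hν0, one_smul] at h1
      exact h1
    exact hν (three_scale C h2 h5 (Hyp.toTop Hp) hpw hgw hQw (root_mono le_top h.2) hperp hν0 hp').1
  have hli : LinearIndependent ℂ ![(⟨_, hA⟩ : ↥(fixX ρ e f ⊓ LinearMap.ker (wproj C H ρ 0))), ⟨_, hB⟩] := by
    rw [LinearIndependent.pair_iff]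
    intro s t hst
    have h1 : s • orbSum ρ e f xA + t • orbSum ρ e f xB = 0 := congrArg Subtype.val hst
    have h3 := congrArg (wproj C H ρ ⟨p, Hp.memE⟩) h1
    rw [map_add, map_smul, map_smul, hAB, smul_zero, add_zero, map_zero, smul_eq_zero] at h3
    have hs := h3.resolve_right hA0
    rw [hs, zero_smul, zero_add, smul_eq_zero] at h1
    refine ⟨hs, h1.resolve_right fun h0 => hB0 (by rw [h0, map_zero])⟩
  have h4 := hli.fintype_card_le_finrank
  have hXs : ∀ {e' f' : ι → F}, X B f' e' = X B e' f' := fun {e' f'} => X_swap e' f'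
  have Hp' : Hyp Q B (X B f e) p g := by rw [hXs]; exact Hp
  have h6 := finrank_fixed_le C ρ H Hp h5 hS (frac_small C h2 H Hp h5 (by rw [hXe]) hq)
    (frac_small C h2 (Hyp.swapFrame C H) Hp' h5 (by rw [hXs, hXe]) hq)
  have h7 : finrank ℂ ↥(fixX ρ e f ⊓ LinearMap.range (wproj C H ρ 0)) ≤ mult C H ρ 0 :=
    Submodule.finrank_mono inf_le_right
  have h8 := sum_mult_le C H ρ (insert 0 (orb Q B e f (0 : F)))
  rw [Finset.sum_insert (fun h => (mem_orb.mp h).1 rfl)] at h8
  have h9 : (orb Q B e f (0 : F)).card ≤ ∑ u ∈ orb Q B e f (0 : F), mult C H ρ u := by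
    rw [Finset.card_eq_sum_ones]; exact Finset.sum_le_sum (hge H)
  have := hO H
  simp only [Fintype.card_fin] at h4
  omega

end Cfsg.Lib.Linear.OrthDeg
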