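import Cfsg.Agent.Lib.Linear.OrthDegree.Odd.Frac

/-!
# Fixed vectors of the group of the space of parameters
-/

set_option autoImplicit false

namespace Cfsg.Lib.Linear.OrthDeg

open Module Cfsg.Lib.Linear.Orth Cfsg.Lib.Linear.MinIndexOrth Cfsg.Lib.OrthMult
open scoped Matrix Classical

variable {ι : Type} [Fintype ι] [DecidableEq ι] {F : Type*} [Field F] [Fintype F]
  {Q : (ι → F) → F} {B : LinearMap.BilinForm F (ι → F)}
  {V : Type*} [AddCommGroup V] [Module ℂ V] [FiniteDimensional ℂ V]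
  (C : Space Q B) (ρ : Representation ℂ ↥(Root Q B ⊤) V)

/-- The vectors fixed by the group of the space of parameters. -/
def fixX (e f : ι → F) : Submodule ℂ V where
  carrier := {x | ∀ h : ↥(Root Q B ⊤), (h : GL ι F) ∈ Root Q B (X B e f) → ρ h x = x}
  zero_mem' h _ := map_zero _
  add_mem' {a b} ha hb h hh := by rw [map_add, ha h hh, hb h hh]
  smul_mem' c {a} ha h hh := by rw [map_smul, ha h hh]

variable {e f : ι → F} (H : Hyp Q B ⊤ e f)

/-- The sum of the images under the group of the space of parameters. -/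
noncomputable def orbSum (ρ : Representation ℂ ↥(Root Q B ⊤) V) (e f : ι → F) (x : V) : V :=
  ∑ h : ↥(Root Q B (X B e f)), ρ ⟨h.1, root_mono le_top h.2⟩ x

theorem orbSum_mem (x : V) : orbSum ρ e f x ∈ fixX ρ e f := fun k hk => by
  rw [orbSum, map_sum]
  refine Fintype.sum_equiv (Equiv.mulLeft (⟨(k : GL ι F), hk⟩ : ↥(Root Q B (X B e f)))) _ _ fun h => ?_
  rw [← Module.End.mul_apply, ← map_mul]
  rfl

include C H

omit [FiniteDimensional ℂ V] in
theorem rootX_conj_wproj (h : ↥(Root Q B ⊤)) (hh : (h : GL ι F) ∈ Root Q B (X B e f)) (v : X B e f) (x : V) :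
    ρ h (wproj C H ρ v x) = wproj C H ρ ⟨(h : GL ι F).val *ᵥ v.1, root_mem_U C hh v.2⟩ (ρ h x) := by
  obtain ⟨he, hf⟩ := root_fix C H hh
  exact LinearMap.congr_fun (conj_wproj C H ρ (g := h) (v := v)
    (v' := ⟨(h : GL ι F).val *ᵥ v.1, root_mem_U C hh v.2⟩) one_ne_zero (by rw [one_smul]; exact he)
    (by rw [inv_one, one_smul]; exact hf) (by rw [inv_one, one_smul])) x

theorem fixed_eq_proj {z : V} (hz : ∀ w : X B e f, ρ (qhom C H (Multiplicative.ofAdd w)) z = z) :
    wproj C H ρ 0 z = z := by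
  conv_rhs => rw [← Module.End.one_apply (R := ℂ) z, ← sum_wproj C H ρ, LinearMap.sum_apply]
  refine Eq.symm (Finset.sum_eq_single (0 : X B e f) (fun v _ hv => ?_) fun h => absurd (Finset.mem_univ _) h)
  by_contra hne
  refine hv ((th_bijective C H).1 (DFunLike.ext _ _ fun w => ?_))
  rw [th_apply, th_apply, wproj_fixed C H ρ (hz w) hne]
  simp

variable {p g : ι → F} (Hp : Hyp Q B (X B e f) p g)

include Hp

/-- A fixed vector without a zero weight is moved by more than half. -/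
theorem moved_gt [Fintype ↥(Root Q B ⊤)] (hS : SingW C ρ) (hfr : Frac Q B e f p) {x : V}
    (hx : x ∈ fixX ρ e f) (h0 : wproj C H ρ 0 x = 0) (hne : x ≠ 0) :
    invN ρ x < 2 * invN ρ (x - avgLine C H ρ ⟨p, Hp.memE⟩ x) := by
  set c : X B e f → ℝ := fun v => invN ρ (wproj C H ρ v x) with hc
  have hinv : ∀ (k : ↥(Root Q B (X B e f))) (v : X B e f),
      c ⟨(k : GL ι F).val *ᵥ v.1, root_mem_U C k.2 v.2⟩ = c v := fun k v => by
    have h1 := rootX_conj_wproj C ρ H ⟨k.1, root_mono le_top k.2⟩ k.2 v x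
    rw [hx ⟨k.1, root_mono le_top k.2⟩ k.2] at h1
    simp only [hc]
    rw [← h1, invN_act]
  have hpos : ∀ v, 0 ≤ c v := fun v => invN_nonneg ρ _
  set m : X B e f → ℕ := fun v =>
    Nat.card {k : ↥(Root Q B (X B e f)) // B p ((k : GL ι F).val *ᵥ v.1) = 0} with hm
  have hsum : ∀ k : ↥(Root Q B (X B e f)),
      ∑ v : X B e f, (if B p ((k : GL ι F).val *ᵥ v.1) = 0 then c v else 0) =
        ∑ v : X B e f, (if B p v.1 = 0 then c v else 0) := fun k => by
    let σ : X B e f → X B e f := fun v => ⟨(k : GL ι F).val *ᵥ v.1, root_mem_U C k.2 v.2⟩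
    have hσ : Function.Bijective σ := Finite.injective_iff_bijective.mp fun a b h =>
      Subtype.ext (act_injective (k : GL ι F) (congrArg Subtype.val h))
    rw [← hσ.sum_comp fun v => if B p v.1 = 0 then c v else 0]
    exact Finset.sum_congr rfl fun v _ => by simp only [σ, hinv k v]
  have htot : invN ρ x = ∑ v, c v := invN_sum_wproj C H ρ x
  have hmov : invN ρ (x - avgLine C H ρ ⟨p, Hp.memE⟩ x) = ∑ v : X B e f, if B p v.1 = 0 then 0 else c v := by
    rw [invN_moved, Finset.sum_filter]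
    refine Finset.sum_congr rfl fun v _ => ?_
    simp only [C.symm v.1 p, ite_not, hc]
  set G : ℝ := (Nat.card ↥(Root Q B (X B e f)) : ℝ) with hG
  have hGu : G * (∑ v : X B e f, if B p v.1 = 0 then c v else 0) = ∑ v, c v * (m v : ℝ) := by
    have h1 := Finset.sum_congr (s₁ := (Finset.univ : Finset ↥(Root Q B (X B e f)))) rfl fun k _ => hsum k
    rw [Finset.sum_comm, Finset.sum_const, Finset.card_univ, nsmul_eq_mul, ← Nat.card_eq_fintype_card] at h1
    rw [hG, ← h1]
    refine Finset.sum_congr rfl fun v _ => ?_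
    rw [← Finset.sum_filter, Finset.sum_const, nsmul_eq_mul, mul_comm]
    simp only [hm, Nat.card_eq_fintype_card, Fintype.card_subtype]
  have hterm : ∀ v, 2 * (c v * (m v : ℝ)) ≤ c v * G ∧ (c v ≠ 0 → 2 * (c v * (m v : ℝ)) < c v * G) := fun v => by
    by_cases hcv : c v = 0
    · exact ⟨by rw [hcv]; simp, fun h => absurd hcv h⟩
    have hv0 : v ≠ 0 := fun h => hcv (by rw [hc, h]; simp [h0, invN_zero])
    have hQv : Q v.1 = 0 := by
      by_contra hQ
      exact hcv (by rw [hc]; simp [wproj_eq_zero C H ρ (hS e f H v hQ), invN_zero])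
    have h1 : (2 * (m v : ℝ)) < G := by
      rw [hG]; exact_mod_cast hfr v.1 v.2 (fun h => hv0 (Subtype.ext h)) hQv
    have h2 : 0 < c v := lt_of_le_of_ne (hpos v) (Ne.symm hcv)
    exact ⟨by nlinarith, fun _ => by nlinarith⟩
  obtain ⟨v1, hv1⟩ : ∃ v, c v ≠ 0 := by
    by_contra hall
    push Not at hall
    have h1 : invN ρ x = 0 := by rw [htot]; simp [hall]
    exact (invN_pos ρ hne).ne' h1
  have hlt : ∑ v, 2 * (c v * (m v : ℝ)) < ∑ v, c v * G :=
    Finset.sum_lt_sum (fun v _ => (hterm v).1) ⟨v1, Finset.mem_univ _, (hterm v1).2 hv1⟩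
  rw [← Finset.mul_sum, ← Finset.sum_mul, ← hGu, ← htot, ← mul_assoc, mul_comm (invN ρ x), mul_comm 2 G,
    mul_assoc] at hlt
  have hlt' := lt_of_mul_lt_mul_left hlt (Nat.cast_nonneg _)
  have hadd : invN ρ x = (∑ v : X B e f, if B p v.1 = 0 then c v else 0) +
      ∑ v : X B e f, if B p v.1 = 0 then 0 else c v := by
    rw [htot, ← Finset.sum_add_distrib]
    exact Finset.sum_congr rfl fun v _ => by split_ifs <;> simp
  rw [hmov]
  linarith

/-- The vectors fixed by the group of the space of parameters without a zero weight embed in those of weight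
zero. -/
theorem finrank_fixed_le [Fintype ↥(Root Q B ⊤)] (h5 : 5 ≤ Fintype.card ι) (hS : SingW C ρ)
    (hfr : Frac Q B e f p) (hfr' : Frac Q B f e p) :
    finrank ℂ ↥(fixX ρ e f ⊓ LinearMap.ker (wproj C H ρ 0)) ≤
      finrank ℂ ↥(fixX ρ e f ⊓ LinearMap.range (wproj C H ρ 0)) := by
  have H' := Hyp.swapFrame C H
  obtain ⟨hep, hfp⟩ := mem_X.mp Hp.memE
  obtain ⟨heg, hfg⟩ := mem_X.mp Hp.memF
  have hm : ∀ x y : ι → F, Q x = 0 → Q y = 0 → B x y = 1 → Q (x - y) = -1 := fun x y hx hy hxy => by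
    rw [sub_eq_add_neg, C.add, C.neg, hx, hy, map_neg, hxy]; ring
  have hQef := hm e f H.singE H.singF H.pair
  have hQpg := hm p g Hp.singE Hp.singF Hp.pair
  have hnef : Q (e - f) ≠ 0 := by rw [hQef]; simp
  have hnpg : Q (p - g) ≠ 0 := by rw [hQpg]; simp
  set sw : ↥(Root Q B ⊤) :=
    ⟨rGL Q (e - f) * rGL Q (p - g), rGL_mul_rGL_root C h5 hnef (hQef.trans hQpg.symm)⟩ with hsw
  have hswI := root_le_iso C _ sw.2
  have hswf : (sw : GL ι F).val *ᵥ f = e := by
    show (rGL Q (e - f) * rGL Q (p - g)).val *ᵥ f = e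
    rw [mul_act, rGL_fix C hnpg (by simp [C.symm p f, C.symm g f, hfp, hfg]), rGL_act C hnef, hQef]
    simp [H.pair, C.self_zero H.singF]
  have hswe : (sw : GL ι F).val *ᵥ e = f := by
    show (rGL Q (e - f) * rGL Q (p - g)).val *ᵥ e = f
    rw [mul_act, rGL_fix C hnpg (by simp [C.symm p e, C.symm g e, hep, heg]), rGL_act C hnef, hQef]
    simp [H.pair' C, C.self_zero H.singE]
  have hswX : ∀ x ∈ X B e f, (sw : GL ι F).val *ᵥ x ∈ X B e f := fun x hx => by
    obtain ⟨h1, h2⟩ := mem_X.mp hx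
    refine mem_X.mpr ⟨?_, ?_⟩
    · rw [← hswf, C.B_act hswI, h2]
    · rw [← hswe, C.B_act hswI, h1]
  have hswinvX : ∀ x ∈ X B e f, ((sw : GL ι F)⁻¹).val *ᵥ x ∈ X B e f := fun x hx => by
    obtain ⟨h1, h2⟩ := mem_X.mp hx
    have e1 : ((sw : GL ι F)⁻¹).val *ᵥ f = e := by
      conv_lhs => rw [← hswe]
      rw [inv_act]
    have e2 : ((sw : GL ι F)⁻¹).val *ᵥ e = f := by
      conv_lhs => rw [← hswf]
      rw [inv_act]
    refine mem_X.mpr ⟨?_, ?_⟩
    · rw [← e1, C.B_act (inv_mem hswI), h2]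
    · rw [← e2, C.B_act (inv_mem hswI), h1]
  let L : V →ₗ[ℂ] V := (ρ sw).comp (wproj C H' ρ 0)
  refine LinearMap.finrank_le_finrank_of_injective
    (f := (L.domRestrict _).codRestrict (fixX ρ e f ⊓ LinearMap.range (wproj C H ρ 0)) fun x => ?_) ?_
  · obtain ⟨hfx, -⟩ := x.2
    set z := wproj C H' ρ 0 x.1 with hz
    show ρ sw z ∈ _
    refine ⟨fun h hh => ?_, ?_⟩
    · set k : ↥(Root Q B ⊤) := sw⁻¹ * h * sw with hk
      have hkX : (k : GL ι F) ∈ Root Q B (X B e f) := by
        have h1 := root_conj_map C (inv_mem hswI) hswinvX hh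
        rw [inv_inv] at h1
        rw [hk, Subgroup.coe_mul, Subgroup.coe_mul, Subgroup.coe_inv]
        exact h1
      have hk1 : ρ k z = z := by
        have hfx' : Fixes f e (0 : ι → F) k :=
          ⟨(root_fix C H hkX).2, (root_fix C H hkX).1, Matrix.mulVec_zero _⟩
        rw [hz, ← Module.End.mul_apply, fixes_comm C H' ρ (v := 0) hfx', Module.End.mul_apply, hfx k hkX]
      calc ρ h (ρ sw z) = ρ sw (ρ k z) := by
            have h1 : h * sw = sw * k := by rw [hk]; group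
            show (ρ h * ρ sw) z = (ρ sw * ρ k) z
            rw [← map_mul, ← map_mul, h1]
        _ = ρ sw z := by rw [hk1]
    · refine ⟨ρ sw z, fixed_eq_proj C ρ H fun w => ?_⟩
      have hw' : ((sw : GL ι F)⁻¹).val *ᵥ w.1 ∈ X B f e := by rw [X_swap]; exact hswinvX _ w.2
      have hq : qhom C H (Multiplicative.ofAdd w) * sw =
          sw * qhom C H' (Multiplicative.ofAdd ⟨_, hw'⟩) := Subtype.ext (by
        rw [Subgroup.coe_mul, Subgroup.coe_mul, qhom_coe, qhom_coe]
        have h1 := sGL_conj C H'.singE (X.left hw') hswI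
        rw [hswf, act_inv] at h1
        rw [← h1, inv_mul_cancel_right])
      rw [← Module.End.mul_apply, ← map_mul, hq, map_mul, Module.End.mul_apply]
      congr 1
      rw [hz, ← Module.End.mul_apply, wproj_zero_fix]
  · rw [← LinearMap.ker_eq_bot]
    refine (Submodule.eq_bot_iff _).mpr fun x hx => Subtype.ext ?_
    by_contra hne
    have h1 : ρ sw (wproj C H' ρ 0 x.1) = 0 := congrArg Subtype.val (LinearMap.mem_ker.mp hx)
    have h2 : wproj C H' ρ 0 x.1 = 0 := by
      have h3 := congrArg (ρ sw⁻¹) h1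
      rwa [map_zero, ← Module.End.mul_apply, ← map_mul, inv_mul_cancel, map_one, Module.End.one_apply] at h3
    obtain ⟨hfx, hker⟩ := x.2
    have a1 := moved_gt C ρ H Hp hS hfr hfx (LinearMap.mem_ker.mp hker) hne
    have Hp' : Hyp Q B (X B f e) p g := by rw [X_swap]; exact Hp
    have hfx' : (x.1 : V) ∈ fixX ρ f e := by
      intro h hh
      rw [X_swap] at hh
      exact hfx h hh
    have a2 := moved_gt C ρ H' Hp' hS hfr' hfx' h2 hne
    have a3 := key_moved C ρ H Hp hS (x := x.1) fun w hw =>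
      hfx _ (sGL_mem_root Hp.memE (mem_perp2.mp hw).1 Hp.singE (mem_perp2.mp hw).2.1)
    linarith

theorem proj_orbSum (x0 : V) (hx0 : wproj C H ρ ⟨p, Hp.memE⟩ x0 = x0) (v : X B e f) :
    wproj C H ρ v (orbSum ρ e f x0) =
      ∑ h ∈ (Finset.univ : Finset ↥(Root Q B (X B e f))).filter (fun h : ↥(Root Q B (X B e f)) => (h : GL ι F).val *ᵥ p = v.1),
        ρ ⟨h.1, root_mono le_top h.2⟩ x0 := by
  rw [orbSum, map_sum, Finset.sum_filter]
  refine Finset.sum_congr rfl fun h _ => ?_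
  have h1 := rootX_conj_wproj C ρ H ⟨h.1, root_mono le_top h.2⟩ h.2 ⟨p, Hp.memE⟩ x0
  rw [hx0] at h1
  rw [h1, ← Module.End.mul_apply (f := wproj C H ρ v)]
  split_ifs with hv
  · rw [show (⟨(h : GL ι F).val *ᵥ p, root_mem_U C h.2 Hp.memE⟩ : X B e f) = v from Subtype.ext hv, wproj_idem]
  · rw [wproj_ortho C H ρ fun he => hv (congrArg Subtype.val he).symm]
    rfl

end Cfsg.Lib.Linear.OrthDeg
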