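import Cfsg.Agent.Lib.Linear.OrthDegree.Odd.Stab

/-!
# Fewer than half of an orbit of singular vectors is perpendicular to a given one
-/

set_option autoImplicit false

namespace Cfsg.Lib.Linear.OrthDeg

open Module Cfsg.Lib.Linear.Orth Cfsg.Lib.Linear.MinIndexOrth Cfsg.Lib.OrthMult
open scoped Matrix Classical

variable {ι : Type} [Fintype ι] [DecidableEq ι] {F : Type*} [Field F] [Fintype F]
  {Q : (ι → F) → F} {B : LinearMap.BilinForm F (ι → F)}

/-- The singular vectors in odd dimension. -/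
theorem level_odd (C : Space Q B) : ∀ (r : ℕ) {U : Submodule F (ι → F)}, NDeg B U →
    finrank F U = 2 * r + 1 → (2 : F) ≠ 0 → level Q U 0 = Nat.card F ^ (2 * r)
  | 0, U, hU, h1, h2 => by
    obtain ⟨w, hw, hQ, hle⟩ := exists_line C hU (by omega)
    rw [mul_zero, pow_zero, level, Nat.card_eq_one_iff_unique]
    refine ⟨⟨fun x y => Subtype.ext ?_⟩, ⟨⟨0, zero_mem _, C.zero⟩⟩⟩
    have hz : ∀ z : ι → F, z ∈ U → Q z = 0 → z = 0 := fun z hz h0 => by
      obtain ⟨t, rfl⟩ := Submodule.mem_span_singleton.mp (hle hz)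
      rw [C.smul] at h0
      have : t = 0 := by simpa [hQ] using h0
      rw [this, zero_smul]
    rw [hz _ x.2.1 x.2.2, hz _ y.2.1 y.2.2]
  | r + 1, U, hU, h1, h2 => by
    obtain ⟨e, f, H⟩ := exists_hyp' C hU (by omega)
    have hd := finrank_step C H
    have h3 := level_step C H (0 : F)
    rw [level_odd C r (H.ndeg C hU) (by omega) h2,
      show finrank F ↥(perp2 B U e f) = 2 * r + 1 by omega] at h3
    have h4 : (level Q U 0 : ℤ) = (Nat.card F : ℤ) ^ (2 * (r + 1)) := by
      rw [h3]; push_cast; ring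
    exact_mod_cast h4

/-- Less than half of each orbit of singular vectors is perpendicular to `p`. -/
def Frac (Q : (ι → F) → F) (B : LinearMap.BilinForm F (ι → F)) (e f p : ι → F) : Prop :=
  ∀ v ∈ X B e f, v ≠ 0 → Q v = 0 →
    2 * Nat.card {h : ↥(Root Q B (X B e f)) // B p ((h : GL ι F).val *ᵥ v) = 0} <
      Nat.card ↥(Root Q B (X B e f))

theorem frac_of_orbit {e f p v : ι → F}
    (h : 2 * (((Finset.univ : Finset ↥(Root Q B (X B e f))).image fun h : ↥(Root Q B (X B e f)) =>
        (h : GL ι F).val *ᵥ v).filter fun z => B p z = 0).card <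
      ((Finset.univ : Finset ↥(Root Q B (X B e f))).image fun h : ↥(Root Q B (X B e f)) =>
        (h : GL ι F).val *ᵥ v).card) :
    2 * Nat.card {h : ↥(Root Q B (X B e f)) // B p ((h : GL ι F).val *ᵥ v) = 0} <
      Nat.card ↥(Root Q B (X B e f)) := by
  set act : ↥(Root Q B (X B e f)) → (ι → F) := fun h => (h : GL ι F).val *ᵥ v with hact
  set O := (Finset.univ : Finset ↥(Root Q B (X B e f))).image act with hO
  set m := (Finset.univ.filter fun h => act h = v).card with hm
  have hfib : ∀ z ∈ O, (Finset.univ.filter fun h => act h = z).card = m := fun z hz => by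
    obtain ⟨k, -, rfl⟩ := Finset.mem_image.mp hz
    refine Finset.card_bij' (fun h _ => k⁻¹ * h) (fun h _ => k * h) (fun h hh => ?_) (fun h hh => ?_)
      (fun h _ => mul_inv_cancel_left k h) (fun h _ => inv_mul_cancel_left k h)
    · rw [Finset.mem_filter] at hh ⊢
      refine ⟨Finset.mem_univ _, ?_⟩
      have h1 := hh.2
      simp only [hact] at h1 ⊢
      rw [Subgroup.coe_mul, Subgroup.coe_inv, mul_act, h1, inv_act]
    · rw [Finset.mem_filter] at hh ⊢
      refine ⟨Finset.mem_univ _, ?_⟩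
      have h1 := hh.2
      simp only [hact] at h1 ⊢
      rw [Subgroup.coe_mul, mul_act, h1]
  have hm0 : 0 < m := Finset.card_pos.mpr ⟨1, by simp [hact]⟩
  have e1 : Nat.card ↥(Root Q B (X B e f)) = O.card * m := by
    rw [Nat.card_eq_fintype_card, ← Finset.card_univ,
      Finset.card_eq_sum_card_fiberwise (f := act) (t := O) fun h hh => Finset.mem_image_of_mem _ hh,
      Finset.sum_congr rfl hfib, Finset.sum_const, smul_eq_mul]
  have e2 : Nat.card {h : ↥(Root Q B (X B e f)) // B p (act h) = 0} =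
      (O.filter fun z => B p z = 0).card * m := by
    rw [Nat.card_eq_fintype_card, Fintype.card_subtype,
      Finset.card_eq_sum_card_fiberwise (f := act) (t := O.filter fun z => B p z = 0) fun h hh => by
        rw [Finset.mem_coe, Finset.mem_filter] at hh ⊢
        exact ⟨Finset.mem_image_of_mem _ (Finset.mem_univ _), hh.2⟩]
    rw [Finset.sum_congr rfl fun z hz => ?_, Finset.sum_const, smul_eq_mul]
    rw [Finset.mem_filter] at hz
    rw [← hfib z hz.1]
    refine congrArg Finset.card (Finset.ext fun h => ?_)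
    simp only [Finset.mem_filter, Finset.mem_univ, true_and, and_iff_right_iff_imp]
    rintro rfl
    exact hz.2
  show 2 * Nat.card {h : ↥(Root Q B (X B e f)) // B p (act h) = 0} < _
  rw [e1, e2, ← mul_assoc]
  exact Nat.mul_lt_mul_of_pos_right h hm0

variable (C : Space Q B) (h2 : (2 : F) ≠ 0) {e f : ι → F} (H : Hyp Q B ⊤ e f) {p g : ι → F}
  (Hp : Hyp Q B (X B e f) p g)

include C h2 H Hp

theorem frac_large {r : ℕ} (hr : 2 ≤ r) (hX : finrank F (X B e f) = 2 * r + 1) : Frac Q B e f p := by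
  intro v hv hv0 hQv
  refine frac_of_orbit ?_
  set S := (Set.toFinite {x | x ∈ X B e f ∧ Q x = 0}).toFinset with hS
  have hO : ((Finset.univ : Finset ↥(Root Q B (X B e f))).image fun h : ↥(Root Q B (X B e f)) =>
      (h : GL ι F).val *ᵥ v) = S.erase 0 := by
    ext z
    simp only [Finset.mem_image, Finset.mem_univ, true_and, Finset.mem_erase, hS, Set.Finite.mem_toFinset,
      Set.mem_setOf_eq]
    constructor
    · rintro ⟨h, rfl⟩
      exact ⟨act_ne_zero hv0, root_mem_U C h.2 hv, by rw [mem_iso.mp (root_le_iso C _ h.2), hQv]⟩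
    · rintro ⟨hz0, hz, hQz⟩
      obtain ⟨h, hh, hhz⟩ := trans C (X_ndeg C H) (by omega) hv hz hv0 hz0 (by rw [hQv, hQz])
      exact ⟨⟨h, hh⟩, hhz⟩
  rw [hO]
  have hS0 : (0 : ι → F) ∈ S := by simp [hS, C.zero]
  have hd := finrank_step C Hp
  have hSc : S.card = Nat.card F ^ (2 * r) := by
    rw [← level_odd C r (X_ndeg C H) hX h2, hS, ← Set.ncard_eq_toFinset_card _ (Set.toFinite _),
      ← Nat.card_coe_set_eq]
    rfl
  have hSp : (S.filter fun z => B p z = 0).card = Nat.card F * Nat.card F ^ (2 * (r - 1)) := by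
    have h1 := card_fib_zero C Hp (0 : F) (P := fun _ => True) (fun _ _ => Iff.rfl)
    simp only [and_true] at h1
    rw [← level_odd C (r - 1) (Hp.ndeg C (X_ndeg C H)) (by omega) h2, level, ← h1, Nat.card_coe_set_eq,
      ← Set.ncard_coe_finset]
    refine congrArg Set.ncard ?_
    ext z
    simp [hS, fib, and_assoc]
  rw [Finset.filter_erase, Finset.card_erase_of_mem hS0,
    Finset.card_erase_of_mem (s := S.filter fun z => B p z = 0) (Finset.mem_filter.mpr ⟨hS0, map_zero _⟩), hSc, hSp]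
  obtain ⟨s, rfl⟩ : ∃ s, r = s + 2 := ⟨r - 2, by omega⟩
  have hq : 2 ≤ Nat.card F := Finite.one_lt_card
  rw [show 2 * (s + 2 - 1) = 2 * s + 2 by omega, show 2 * (s + 2) = (2 * s + 2) + 2 by ring, pow_add _ (2 * s + 2) 2]
  have hpos : 1 ≤ Nat.card F ^ (2 * s + 2) := Nat.one_le_pow _ _ (by omega)
  set P := Nat.card F ^ (2 * s + 2)
  set q := Nat.card F
  have h4 : 2 * (q * P) ≤ P * q ^ 2 := (Nat.mul_le_mul_right (q * P) hq).trans (le_of_eq (by ring))
  have h5 : 1 ≤ q * P := Nat.mul_pos (by omega) (by omega)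
  omega

theorem frac_small (h5 : 5 ≤ Fintype.card ι) (hX : finrank F (X B e f) = 3) (hq : 4 ≤ Fintype.card F) :
    Frac Q B e f p := by
  intro v hv hv0 hQv
  refine frac_of_orbit ?_
  have hd := finrank_step C Hp
  have hXn := X_ndeg C H
  obtain ⟨g', Hv, -, -⟩ := exists_partner C hXn hv (Submodule.zero_mem _) (Submodule.zero_mem _) hQv
    (map_zero _) (map_zero _) (by simpa using hv0)
  have hd' := finrank_step C Hv
  obtain ⟨w, hw, hQw, -⟩ := exists_line C (Hv.ndeg C hXn) (by omega)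
  obtain ⟨hwX, hvw, hgw⟩ := mem_perp2.mp hw
  set O := (Finset.univ : Finset ↥(Root Q B (X B e f))).image fun h : ↥(Root Q B (X B e f)) =>
      (h : GL ι F).val *ᵥ v with hO
  have hle : (O.filter fun z => B p z = 0).card ≤ Fintype.card F := by
    refine le_trans (Finset.card_le_card (t := (Finset.univ : Finset F).image fun t => t • p) fun z hz => ?_)
      Finset.card_image_le
    rw [Finset.mem_filter, hO, Finset.mem_image] at hz
    obtain ⟨⟨h, -, rfl⟩, hpz⟩ := hz
    set z := (h : GL ι F).val *ᵥ v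
    have hzX : z ∈ X B e f := root_mem_U C h.2 hv
    have hQz : Q z = 0 := by rw [mem_iso.mp (root_le_iso C _ h.2), hQv]
    obtain ⟨w', hw', hQw', hle'⟩ := exists_line C (Hp.ndeg C hXn) (by omega)
    obtain ⟨-, hpw', hgw'⟩ := mem_perp2.mp hw'
    obtain ⟨t, ht⟩ := Submodule.mem_span_singleton.mp (hle' (Hp.proj C hzX))
    rw [hpz, zero_smul, sub_zero, eq_sub_iff_add_eq] at ht
    have h1 := hQz
    rw [← ht, C.add, C.smul, C.smul, Hp.singE, map_smul, LinearMap.map_smul₂, C.symm w' p, hpw'] at h1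
    have ht0 : t = 0 := by simpa [hQw'] using h1
    rw [ht0, zero_smul, zero_add] at ht
    exact Finset.mem_image.mpr ⟨B g z, Finset.mem_univ _, ht⟩
  obtain ⟨μ, hμ0, hμ⟩ := exists_mu hq
  have sg : ∀ t : F, sGL Q B g' (t • w) ∈ Root Q B (X B e f) := fun t =>
    sGL_mem_root Hv.memF (Submodule.smul_mem _ _ hwX) Hv.singF (by rw [map_smul, hgw, smul_zero])
  have sv : ∀ t : F, sGL Q B v (t • w) ∈ Root Q B (X B e f) := fun t =>
    sGL_mem_root Hv.memE (Submodule.smul_mem _ _ hwX) Hv.singE (by rw [map_smul, hvw, smul_zero])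
  let z : Option (F ⊕ F) → ι → F := fun o => match o with
    | none => v
    | some (Sum.inl s) => (sGL Q B v (s • w) * sGL Q B g' ((1 : F) • w)).val *ᵥ v
    | some (Sum.inr s) => (sGL Q B v (s • w) * sGL Q B g' (μ • w)).val *ᵥ v
  have hval : ∀ s t : F, B v ((sGL Q B v (s • w) * sGL Q B g' (t • w)).val *ᵥ v) = -(t ^ 2 * Q w) ∧
      B w ((sGL Q B v (s • w) * sGL Q B g' (t • w)).val *ᵥ v) = t * (2 * Q w) - s * (t ^ 2 * Q w) * (2 * Q w) := by
    intro s t
    rw [mul_act, sGL_act C Hv.singF (by rw [map_smul, hgw, smul_zero]),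
      sGL_act C Hv.singE (by rw [map_smul, hvw, smul_zero])]
    constructor <;>
      simp only [map_add, map_sub, map_smul, LinearMap.smul_apply, C.smul, Hv.pair, Hv.pair' C,
        C.self_zero Hv.singE, C.symm w v, hvw, C.self, C.symm w g', hgw, smul_eq_mul] <;> ring
  have hinj : Function.Injective z := by
    have hne : ∀ t : F, t ≠ 0 → t ^ 2 * Q w ≠ 0 := fun t ht => mul_ne_zero (pow_ne_zero _ ht) hQw
    have hzero : ∀ s t : F, t ≠ 0 → (sGL Q B v (s • w) * sGL Q B g' (t • w)).val *ᵥ v ≠ v := fun s t ht h => by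
      have := (hval s t).1
      rw [h, C.self_zero Hv.singE] at this
      exact hne t ht (neg_eq_zero.mp this.symm)
    have hpair : ∀ s s' t t' : F, t ≠ 0 →
        (sGL Q B v (s • w) * sGL Q B g' (t • w)).val *ᵥ v = (sGL Q B v (s' • w) * sGL Q B g' (t' • w)).val *ᵥ v →
          t ^ 2 = t' ^ 2 ∧ (t = t' → s = s') := fun s s' t t' ht h => by
      obtain ⟨a1, a2⟩ := hval s t
      obtain ⟨b1, b2⟩ := hval s' t'
      rw [h, b1] at a1
      refine ⟨mul_right_cancel₀ hQw (neg_injective a1.symm), fun htt => ?_⟩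
      subst htt
      rw [h, b2, sub_right_inj] at a2
      exact mul_right_cancel₀ (hne t ht) (mul_right_cancel₀ (mul_ne_zero h2 hQw) a2.symm)
    intro o o' h
    rcases o with _ | s | s <;> rcases o' with _ | s' | s'
    · rfl
    · exact absurd h.symm (hzero s' 1 one_ne_zero)
    · exact absurd h.symm (hzero s' μ hμ0)
    · exact absurd h (hzero s 1 one_ne_zero)
    · rw [(hpair s s' 1 1 one_ne_zero h).2 rfl]
    · exact absurd (by simpa using (hpair s s' 1 μ one_ne_zero h).1.symm) hμ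
    · exact absurd h (hzero s μ hμ0)
    · exact absurd (by simpa using (hpair s s' μ 1 hμ0 h).1) hμ
    · rw [(hpair s s' μ μ hμ0 h).2 rfl]
  have hge : Fintype.card (Option (F ⊕ F)) ≤ O.card := by
    rw [← Finset.card_univ, ← Finset.card_image_of_injective _ hinj]
    refine Finset.card_le_card fun x hx => ?_
    rw [Finset.mem_image] at hx
    obtain ⟨o, -, rfl⟩ := hx
    rw [hO, Finset.mem_image]
    rcases o with _ | s | s
    · exact ⟨1, Finset.mem_univ _, by simp [z]⟩
    · exact ⟨⟨_, mul_mem (sv s) (sg 1)⟩, Finset.mem_univ _, rfl⟩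
    · exact ⟨⟨_, mul_mem (sv s) (sg μ)⟩, Finset.mem_univ _, rfl⟩
  rw [Fintype.card_option, Fintype.card_sum] at hge
  omega

end Cfsg.Lib.Linear.OrthDeg
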