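import Cfsg.Agent.Lib.Linear.OrthDegree.Odd.Torus

/-!
# Stabilisers of singular vectors in small odd dimensions
-/

set_option autoImplicit false

namespace Cfsg.Lib.Linear.OrthDeg

open Module Cfsg.Lib.Linear.Orth Cfsg.Lib.Linear.MinIndexOrth Cfsg.Lib.OrthMult
open scoped Matrix

variable {ι : Type} [Fintype ι] [DecidableEq ι] {F : Type*} [Field F]
  {Q : (ι → F) → F} {B : LinearMap.BilinForm F (ι → F)}

/-- Correct the image of the partner of a singular vector by a Siegel element. -/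
theorem fix_partner (C : Space Q B) {U : Submodule F (ι → F)} {p g : ι → F} (H : Hyp Q B U p g) {a : F}
    (ha : a ≠ 0) {z : ι → F} (hz : z ∈ U) (hQz : Q z = 0) (hpz : B p z = a) :
    ∃ y ∈ perp2 B U p g, (sGL Q B p y).val *ᵥ (a • g) = z := by
  set y := a⁻¹ • (z - B g z • p - B p z • g) with hy
  have hym : y ∈ perp2 B U p g := Submodule.smul_mem _ _ (H.proj C hz)
  obtain ⟨-, hpy, hgy⟩ := mem_perp2.mp hym
  refine ⟨y, hym, ?_⟩
  have hyg : B y g = 0 := by rw [C.symm]; exact hgy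
  have e : z = a • y + a • g + B g z • p := by
    rw [hy, smul_smul, mul_inv_cancel₀ ha, one_smul, hpz]; abel
  have hα : B g z = -(Q y * a) := by
    have h1 := hQz
    rw [e] at h1
    simp only [C.add, C.smul, H.singE, H.singF, map_add, map_smul, LinearMap.add_apply, LinearMap.smul_apply,
      hyg, H.pair' C, C.symm y p, hpy, smul_eq_mul, mul_zero, zero_add, add_zero, mul_one] at h1
    have h2 : a * (B g z + Q y * a) = 0 := by linear_combination h1
    exact eq_neg_of_add_eq_zero_left ((mul_eq_zero.mp h2).resolve_left ha)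
  conv_rhs => rw [e, hα]
  rw [Matrix.mulVec_smul, sGL_act C H.singE hpy, H.pair, one_smul, hyg, mul_one, zero_add]
  module

theorem inv_sGL_fix (C : Space Q B) {U : Submodule F (ι → F)} {p g : ι → F} (H : Hyp Q B U p g) {y : ι → F}
    (hy : y ∈ perp2 B U p g) : ((sGL Q B p y)⁻¹ : GL ι F).val *ᵥ p = p := by
  have h1 : (sGL Q B p y).val *ᵥ p = p := by
    rw [sGL_act C H.singE (mem_perp2.mp hy).2.1, C.self_zero H.singE, C.symm y p, (mem_perp2.mp hy).2.1]
    simp
  refine act_injective (sGL Q B p y) ?_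
  show (sGL Q B p y).val *ᵥ _ = (sGL Q B p y).val *ᵥ _
  rw [act_inv, h1]

variable [Fintype F] (C : Space Q B) (h2 : (2 : F) ≠ 0) {p g w : ι → F}

include C h2

omit [Fintype F] in
/-- The decomposition by a hyperbolic pair and a non-singular vector. -/
theorem dec_three (Hp : Hyp Q B ⊤ p g) (hpw : B p w = 0) (hgw : B g w = 0) (hQw : Q w ≠ 0) (x : ι → F) :
    ∃ x0, B p x0 = 0 ∧ B g x0 = 0 ∧ B w x0 = 0 ∧
      x = x0 + B g x • p + B p x • g + (B w x / B w w) • w := by
  have hww : B w w ≠ 0 := by rw [C.self]; exact mul_ne_zero h2 hQw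
  refine ⟨x - B g x • p - B p x • g - (B w x / B w w) • w, ?_, ?_, ?_, by abel⟩
  · simp [C.self_zero Hp.singE, Hp.pair, hpw]
  · simp [C.self_zero Hp.singF, Hp.pair' C, hgw]
  · simp [C.symm w p, C.symm w g, hpw, hgw, hww]

omit [Fintype F] in
/-- A vector perpendicular to all that is perpendicular to `p`, `g`, `w`, and to `p`, `g`, is a multiple of `w`. -/
theorem mem_line (Hp : Hyp Q B ⊤ p g) (hpw : B p w = 0) (hgw : B g w = 0) (hQw : Q w ≠ 0) {z : ι → F}
    (hp : B p z = 0) (hg : B g z = 0) (hz : ∀ x, B p x = 0 → B g x = 0 → B w x = 0 → B x z = 0) :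
    ∃ c : F, z = c • w := by
  obtain ⟨z0, h1, h3, h4, e⟩ := dec_three C h2 Hp hpw hgw hQw z
  rw [hp, hg, zero_smul, zero_smul, add_zero, add_zero] at e
  refine ⟨B w z / B w w, e.trans ?_⟩
  have h0 : z0 = 0 := C.nondeg' fun u => by
    obtain ⟨u0, u1, u2, u3, eu⟩ := dec_three C h2 Hp hpw hgw hQw u
    have h5 : B u0 z0 = 0 := by
      have := hz u0 u1 u2 u3
      rwa [e, map_add, map_smul, C.symm u0 w, u3, smul_zero, add_zero] at this
    rw [eu]
    simp [C.symm z0 u0, h5, C.symm z0 p, C.symm z0 g, C.symm z0 w, h1, h3, h4]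
  rw [h0, zero_add]

variable (h5 : 5 ≤ Fintype.card ι)

include h5

/-- An element of `Ω` fixing the perpendicular of `p`, `g`, `w` which scales `p` scales it by a square; if it
fixes `p` and `g`, it is trivial. -/
theorem three_scale (Hp : Hyp Q B ⊤ p g) (hpw : B p w = 0) (hgw : B g w = 0) (hQw : Q w ≠ 0) {h : GL ι F}
    (hh : h ∈ Root Q B ⊤) (hperp : ∀ x, B p x = 0 → B g x = 0 → B w x = 0 → h.val *ᵥ x = x) {a : F}
    (ha : a ≠ 0) (hp : h.val *ᵥ p = a⁻¹ • p) :
    IsSquare a ∧ (a = 1 → h.val *ᵥ g = g → h = 1) := by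
  have hI := root_le_iso C _ hh
  have hpz : B p (h.val *ᵥ g) = a := by
    have h1 := C.B_act hI p g
    rw [hp, LinearMap.map_smul₂, Hp.pair, smul_eq_mul] at h1
    field_simp at h1
    exact h1
  obtain ⟨y, hy, hyz⟩ := fix_partner C Hp ha (z := h.val *ᵥ g) trivial (by rw [mem_iso.mp hI]; exact Hp.singF) hpz
  obtain ⟨-, hpy, hgy⟩ := mem_perp2.mp hy
  obtain ⟨cy, hcy⟩ := mem_line C h2 Hp hpw hgw hQw hpy hgy fun x xp xg xw => by
    have h1 := C.B_act hI x g
    rw [hperp x xp xg xw, ← hyz, Matrix.mulVec_smul, sGL_act C Hp.singE hpy, C.symm x g, xg] at h1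
    simp only [Hp.pair, one_smul, map_add, map_sub, map_smul, C.symm x p, xp, smul_eq_mul,
      mul_zero, sub_zero, C.symm x g, xg, zero_add, mul_eq_zero] at h1
    exact h1.resolve_left ha
  set h' := (sGL Q B p y)⁻¹ * h with hh'
  have hk := sGL_mem_root (U := (⊤ : Submodule F (ι → F))) (Q := Q) trivial trivial Hp.singE hpy
  have hh'm : h' ∈ Root Q B ⊤ := mul_mem (inv_mem hk) hh
  have h'p : h'.val *ᵥ p = a⁻¹ • p := by
    rw [hh', mul_act, hp, Matrix.mulVec_smul, inv_sGL_fix C Hp hy]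
  have h'g : h'.val *ᵥ g = a • g := by rw [hh', mul_act, ← hyz, inv_act]
  have hrest : ∀ x, B p x = 0 → B g x = 0 → B w x = 0 → h'.val *ᵥ x = x := fun x xp xg xw => by
    rw [hh', mul_act, hperp x xp xg xw]
    have h1 : (sGL Q B p y).val *ᵥ x = x := by
      rw [sGL_act C Hp.singE hpy, xp, hcy, LinearMap.map_smul₂, xw]
      simp
    conv_lhs => rw [← h1]
    rw [inv_act]
  have h'I := root_le_iso C _ hh'm
  obtain ⟨c, hc⟩ := mem_line C h2 Hp hpw hgw hQw (z := h'.val *ᵥ w) (by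
      have h1 := C.B_act h'I p w
      rw [h'p, LinearMap.map_smul₂, hpw, smul_eq_mul] at h1
      exact (mul_eq_zero.mp h1).resolve_left (inv_ne_zero ha)) (by
      have h1 := C.B_act h'I g w
      rw [h'g, LinearMap.map_smul₂, hgw, smul_eq_mul] at h1
      exact (mul_eq_zero.mp h1).resolve_left ha) fun x xp xg xw => by
      have h1 := C.B_act h'I x w
      rwa [hrest x xp xg xw, C.symm x w, xw] at h1
  have hc2 : c = 1 ∨ c = -1 := by
    have h1 := mem_iso.mp h'I w
    rw [hc, C.smul] at h1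
    exact mul_self_eq_one_iff.mp (mul_right_cancel₀ hQw (by linear_combination h1))
  obtain ⟨hsq, hfix⟩ := root_torus C Hp h2 h5 hQw hpw hgw hh'm ha h'p h'g
    (hc2.imp (fun h1 => by rw [hc, h1, one_smul]) fun h1 => by rw [hc, h1, neg_smul, one_smul]) hrest
  refine ⟨hsq, fun ha1 hg => gl_ext fun x => ?_⟩
  have hy0 : y = 0 := by
    have h1 := hyz
    rw [hg, ha1, one_smul, sGL_act C Hp.singE hpy, Hp.pair, one_smul, mul_one] at h1
    rw [add_sub_assoc, add_eq_left, sub_eq_zero] at h1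
    have h3 := congrArg (B g) h1
    rw [hgy, map_smul, Hp.pair' C, smul_eq_mul, mul_one] at h3
    rw [h1, ← h3, zero_smul]
  have hhh : h = h' := by rw [hh', hy0, sGL_one C Hp.singE, inv_one, one_mul]
  rw [hhh, Units.val_one, Matrix.one_mulVec]
  obtain ⟨x0, x1, x2, x3, e⟩ := dec_three C h2 Hp hpw hgw hQw x
  rw [e, Matrix.mulVec_add, Matrix.mulVec_add, Matrix.mulVec_add, Matrix.mulVec_smul, Matrix.mulVec_smul,
    Matrix.mulVec_smul, h'p, h'g, hfix, hrest x0 x1 x2 x3, ha1, inv_one, one_smul, one_smul]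

/-- An element of `Ω` fixing the perpendicular of `p`, `g`, `w` lies in their Siegel group. -/
theorem three_root {U : Submodule F (ι → F)} (Hp : Hyp Q B U p g) (hwU : w ∈ U) (hpw : B p w = 0)
    (hgw : B g w = 0) (hQw : Q w ≠ 0) {h : GL ι F} (hh : h ∈ Root Q B ⊤)
    (hperp : ∀ x, B p x = 0 → B g x = 0 → B w x = 0 → h.val *ᵥ x = x) : h ∈ Root Q B U := by
  have Ht : Hyp Q B ⊤ p g := ⟨trivial, trivial, Hp.singE, Hp.singF, Hp.pair⟩
  have hI := root_le_iso C _ hh
  have hww : B w w = 2 * Q w := C.self w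
  have sp : ∀ (s : F) x, (sGL Q B p (s • w)).val *ᵥ x =
      x + (B p x * s) • w - (s * B w x + s ^ 2 * Q w * B p x) • p := fun s x => by
    rw [sGL_act C Hp.singE (by rw [map_smul, hpw, smul_zero]), C.smul, LinearMap.map_smul₂, smul_eq_mul, smul_smul]
  have sg : ∀ (s : F) x, (sGL Q B g (s • w)).val *ᵥ x =
      x + (B g x * s) • w - (s * B w x + s ^ 2 * Q w * B g x) • g := fun s x => by
    rw [sGL_act C Hp.singF (by rw [map_smul, hgw, smul_zero]), C.smul, LinearMap.map_smul₂, smul_eq_mul, smul_smul]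
  have mp' : ∀ s : F, sGL Q B p (s • w) ∈ Root Q B U := fun s =>
    sGL_mem_root Hp.memE (U.smul_mem _ hwU) Hp.singE (by rw [map_smul, hpw, smul_zero])
  have mg' : ∀ s : F, sGL Q B g (s • w) ∈ Root Q B U := fun s =>
    sGL_mem_root Hp.memF (U.smul_mem _ hwU) Hp.singF (by rw [map_smul, hgw, smul_zero])
  have hperp' : ∀ k ∈ Root Q B U, (∀ x, B p x = 0 → B g x = 0 → B w x = 0 → k.val *ᵥ x = x) →
      ∀ x, B p x = 0 → B g x = 0 → B w x = 0 → (k * h).val *ᵥ x = x := fun k _ hk x x1 x2 x3 => by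
    rw [mul_act, hperp x x1 x2 x3, hk x x1 x2 x3]
  have fp : ∀ s x, B p x = 0 → B g x = 0 → B w x = 0 → (sGL Q B p (s • w)).val *ᵥ x = x :=
    fun s x x1 _ x3 => by rw [sp, x1, x3]; simp
  have fg : ∀ s x, B p x = 0 → B g x = 0 → B w x = 0 → (sGL Q B g (s • w)).val *ᵥ x = x :=
    fun s x _ x2 x3 => by rw [sg, x2, x3]; simp
  -- the image of `p`
  set z := h.val *ᵥ p with hz
  have hzQ : Q z = 0 := by rw [hz, mem_iso.mp hI, Hp.singE]
  have hzd : ∃ α β γ : F, z = α • p + β • g + γ • w := by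
    obtain ⟨z0, z1, z2, z3, e⟩ := dec_three C h2 Ht hpw hgw hQw z
    have h0 : z0 = 0 := C.nondeg' fun u => by
      obtain ⟨u0, u1, u2, u3, eu⟩ := dec_three C h2 Ht hpw hgw hQw u
      have h6 : B u0 z0 = 0 := by
        have := C.B_act hI u0 p
        rw [hperp u0 u1 u2 u3, ← hz, e] at this
        simpa [C.symm u0 p, C.symm u0 g, C.symm u0 w, u1, u2, u3] using this
      rw [eu]
      simp [C.symm z0 u0, h6, C.symm z0 p, C.symm z0 g, C.symm z0 w, z1, z2, z3]
    exact ⟨_, _, _, by rw [h0, zero_add] at e; exact e⟩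
  have hz0 : z ≠ 0 := fun h0 => by
    have := Hp.pair
    rw [← C.B_act hI p g, ← hz, h0] at this
    simp at this
  obtain ⟨k0, hk0, hk0f, hk0b⟩ : ∃ k0 ∈ Root Q B U,
      (∀ x, B p x = 0 → B g x = 0 → B w x = 0 → k0.val *ᵥ x = x) ∧ B p (k0.val *ᵥ z) ≠ 0 := by
    by_cases hb : B p z = 0
    · refine ⟨_, mg' 1, fg 1, ?_⟩
      obtain ⟨α, β, γ, e⟩ := hzd
      have hβ : β = 0 := by simpa [e, C.self_zero Hp.singE, Hp.pair, hpw] using hb
      have hγ : γ = 0 := by
        have h1 := hzQ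
        rw [e, hβ, zero_smul, add_zero, C.add, C.smul, C.smul, Hp.singE] at h1
        simpa [hpw, hQw] using h1
      rw [e, hβ, hγ, zero_smul, zero_smul, add_zero, add_zero, Matrix.mulVec_smul, sg, Hp.pair' C,
        C.symm w p, hpw]
      have hα : α ≠ 0 := fun hα => hz0 (by simp [e, hβ, hγ, hα])
      simp [C.self_zero Hp.singE, hpw, Hp.pair, hα, hQw]
    · exact ⟨1, one_mem _, fun x _ _ _ => by simp, by simpa using hb⟩
  set z1 := k0.val *ᵥ z with hz1
  obtain ⟨α, β, γ, e⟩ := hzd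
  set β1 := B p z1 with hβ1
  set t0 := -(B w z1) / (2 * Q w * β1) with ht0
  set z2 := (sGL Q B p (t0 • w)).val *ᵥ z1 with hz2
  have hz1d : z1 = B g z1 • p + β1 • g + (B w z1 / B w w) • w := by
    obtain ⟨u, u1, u2, u3, eu⟩ := dec_three C h2 Ht hpw hgw hQw z1
    have hu : u = 0 := C.nondeg' fun v => by
      obtain ⟨v0, v1, v2, v3, ev⟩ := dec_three C h2 Ht hpw hgw hQw v
      have hkI := root_le_iso C _ hk0
      have h6 : B v0 u = 0 := by
        have := C.B_act hkI v0 z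
        rw [hk0f v0 v1 v2 v3, ← hz1, eu, e] at this
        simpa [C.symm v0 p, C.symm v0 g, C.symm v0 w, v1, v2, v3] using this
      rw [ev]
      simp [C.symm u v0, h6, C.symm u p, C.symm u g, C.symm u w, u1, u2, u3]
    rw [hu, zero_add] at eu
    exact eu
  have hz2e : z2 = β1 • g := by
    have hwz2 : B w z2 = 0 := by
      rw [hz2, sp]
      simp only [map_add, map_sub, map_smul, hww, C.symm w p, hpw, smul_eq_mul, ← hβ1, ht0]
      field_simp
      ring
    have hpz2 : B p z2 = β1 := by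
      rw [hz2, sp]
      simp [C.self_zero Hp.singE, hpw, ← hβ1]
    have hQz2 : Q z2 = 0 := by
      rw [hz2, mem_iso.mp (root_le_iso C _ (mp' t0)), hz1, mem_iso.mp (root_le_iso C _ hk0), hzQ]
    obtain ⟨δ, ε, hd⟩ : ∃ δ ε : F, z2 = δ • p + β1 • g + ε • w := by
      refine ⟨B g z1 - (t0 * B w z1 + t0 ^ 2 * Q w * β1), B w z1 / B w w + β1 * t0, ?_⟩
      rw [hz2, sp, ← hβ1]
      conv_lhs => arg 1; arg 1; rw [hz1d]
      module
    have hε : ε = 0 := by
      have := hwz2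
      rw [hd] at this
      simp [C.symm w p, C.symm w g, hpw, hgw, hww, h2, hQw] at this
      exact this
    have hδ : δ = 0 := by
      have h1 := hQz2
      rw [hd, hε, zero_smul, add_zero, C.add, C.smul, C.smul, Hp.singE, Hp.singF] at h1
      simpa [Hp.pair, hk0b] using h1
    rw [hd, hδ, hε]
    simp
  have red : ∀ s : F, s ≠ 0 → ∃ k ∈ Root Q B U,
      (∀ x, B p x = 0 → B g x = 0 → B w x = 0 → k.val *ᵥ x = x) ∧
      (k * h).val *ᵥ p = (-(β1 * s ^ 2 * Q w)) • p := fun s hs => by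
    refine ⟨sGL Q B g (((s * Q w)⁻¹) • w) * (sGL Q B p (s • w) * (sGL Q B p (t0 • w) * k0)),
      mul_mem (mg' _) (mul_mem (mp' _) (mul_mem (mp' _) hk0)), fun x x1 x2 x3 => ?_, ?_⟩
    · rw [mul_act, mul_act, mul_act, hk0f x x1 x2 x3, fp _ x x1 x2 x3, fp _ x x1 x2 x3, fg _ x x1 x2 x3]
    · rw [mul_act, mul_act, mul_act, mul_act, ← hz, ← hz1, ← hz2, hz2e, Matrix.mulVec_smul, sp, sg]
      simp only [Hp.pair, C.self_zero Hp.singF, C.symm w g, hgw, map_add, map_sub, map_smul, smul_eq_mul,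
        C.symm w p, hpw, hww, Hp.pair' C, LinearMap.add_apply, one_mul, mul_zero, zero_add, add_zero, sub_zero]
      match_scalars <;> field_simp <;> ring
  obtain ⟨k, hk, hkf, hkp⟩ := red 1 one_ne_zero
  set α0 := -(β1 * 1 ^ 2 * Q w) with hα0
  have hα0n : α0 ≠ 0 := by rw [hα0]; simp [hk0b, hQw]
  obtain ⟨hsq, -⟩ := three_scale C h2 h5 Ht hpw hgw hQw (mul_mem (root_mono le_top hk) hh)
    (hperp' k hk hkf) (inv_ne_zero hα0n) (by rw [inv_inv]; exact hkp)
  obtain ⟨σ, hσ⟩ := hsq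
  have hσ0 : σ ≠ 0 := fun h0 => inv_ne_zero hα0n (by rw [hσ, h0, zero_mul])
  obtain ⟨k, hk, hkf, hkp⟩ := red σ hσ0
  have h1p : (k * h).val *ᵥ p = p := by
    rw [hkp, show -(β1 * σ ^ 2 * Q w) = 1 by
      have : α0 * (σ * σ) = 1 := by rw [← hσ, mul_inv_cancel₀ hα0n]
      rw [hα0] at this
      linear_combination this, one_smul]
  have hk1 := mul_mem (root_mono le_top hk) hh
  have hI1 := root_le_iso C _ hk1
  obtain ⟨y, hy, hyz⟩ := fix_partner C Ht one_ne_zero (z := (k * h).val *ᵥ g) trivial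
    (by rw [mem_iso.mp hI1, Hp.singF]) (by
      have h1 := C.B_act hI1 p g
      rwa [h1p, Hp.pair] at h1)
  rw [one_smul] at hyz
  obtain ⟨-, hpy, hgy⟩ := mem_perp2.mp hy
  obtain ⟨cy, hcy⟩ := mem_line C h2 Ht hpw hgw hQw hpy hgy fun x xp xg xw => by
    have h1 := C.B_act hI1 x g
    rw [hperp' k hk hkf x xp xg xw, ← hyz, sGL_act C Hp.singE hpy] at h1
    simpa [Hp.pair, C.symm x p, C.symm x g, xp, xg] using h1
  have hky : sGL Q B p y ∈ Root Q B U := by rw [hcy]; exact mp' cy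
  have key := (three_scale C h2 h5 Ht hpw hgw hQw (h := (sGL Q B p y)⁻¹ * (k * h))
    (mul_mem (inv_mem (root_mono le_top hky)) hk1) (fun x x1 x2 x3 => by
      rw [mul_act, hperp' k hk hkf x x1 x2 x3]
      conv_lhs => rw [← fp cy x x1 x2 x3, ← hcy]
      rw [inv_act]) one_ne_zero (by rw [mul_act, h1p, inv_one, one_smul, inv_sGL_fix C Ht hy])).2 rfl
    (by rw [mul_act, ← hyz, inv_act])
  rw [inv_mul_eq_one] at key
  have e' : h = k⁻¹ * sGL Q B p y := by rw [key]; group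
  rw [e']
  exact mul_mem (inv_mem hk) hky

end Cfsg.Lib.Linear.OrthDeg
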