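import Cfsg.Agent.Lib.Linear.OrthDegree.Odd.Norm

/-!
# The parts of a vector moved in two opposite frames
-/

set_option autoImplicit false

namespace Cfsg.Lib.Linear.OrthDeg

open Module Cfsg.Lib.Linear.Orth Cfsg.Lib.Linear.MinIndexOrth Cfsg.Lib.Linear.MinDegree
open scoped Matrix Classical

variable {ι : Type} [Fintype ι] [DecidableEq ι] {F : Type*} [Field F] [Fintype F]
  {Q : (ι → F) → F} {B : LinearMap.BilinForm F (ι → F)}

theorem Hyp.swapFrame (C : Space Q B) {U : Submodule F (ι → F)} {e f : ι → F} (H : Hyp Q B U e f) :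
    Hyp Q B U f e := ⟨H.memF, H.memE, H.singF, H.singE, H.pair' C⟩

theorem Hyp.toTop {U : Submodule F (ι → F)} {e f : ι → F} (H : Hyp Q B U e f) :
    Hyp Q B ⊤ e f := ⟨trivial, trivial, H.singE, H.singF, H.pair⟩

theorem X_swap (e f : ι → F) : X B f e = X B e f :=
  SetLike.ext fun x => by rw [mem_X, mem_X, and_comm]

variable {V : Type*} [AddCommGroup V] [Module ℂ V] [FiniteDimensional ℂ V]

/-- Only singular weights occur. -/
def SingW (C : Space Q B) (ρ : Representation ℂ ↥(Root Q B ⊤) V) : Prop :=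
  ∀ (e f : ι → F) (H : Hyp Q B ⊤ e f) (v : X B e f), Q v.1 ≠ 0 → mult C H ρ v = 0

variable (C : Space Q B) (ρ : Representation ℂ ↥(Root Q B ⊤) V) {e f p g : ι → F}
  (H : Hyp Q B ⊤ e f) (Hp : Hyp Q B (X B e f) p g)

variable [Fintype ↥(Root Q B ⊤)]

include C in
/-- A vector fixed by the Siegel elements with centre `p` in the space of parameters is moved by the two
opposite lines on disjoint sets of weights. -/
theorem key_moved (hS : SingW C ρ) {x : V}
    (hx : ∀ (w : ι → F) (hw : w ∈ perp2 B (X B e f) p g),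
      ρ ⟨sGL Q B p w, sGL_mem_root trivial trivial Hp.singE (mem_perp2.mp hw).2.1⟩ x = x) :
    invN ρ (x - avgLine C H ρ ⟨p, Hp.memE⟩ x) +
      invN ρ (x - avgLine C (Hyp.swapFrame C H) ρ ⟨p, (X_swap (B := B) e f).symm ▸ Hp.memE⟩ x) ≤
        invN ρ x := by
  have Hp' : Hyp Q B ⊤ p g := Hyp.toTop Hp
  obtain ⟨hep, hfp⟩ := mem_X.mp Hp.memE
  obtain ⟨heg, hfg⟩ := mem_X.mp Hp.memF
  have heX : e ∈ X B p g := mem_X.mpr ⟨by rw [C.symm]; exact hep, by rw [C.symm]; exact heg⟩
  have hfX : f ∈ X B p g := mem_X.mpr ⟨by rw [C.symm]; exact hfp, by rw [C.symm]; exact hfg⟩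
  have A1 : avgLine C H ρ ⟨p, Hp.memE⟩ = avgLine C Hp' ρ ⟨-e, Submodule.neg_mem _ heX⟩ := by
    unfold avgLine
    congr 1
    refine Finset.sum_congr rfl fun t _ => congrArg ρ (Subtype.ext ?_)
    rw [qhom_coe, qhom_coe, Submodule.coe_smul, Submodule.coe_smul, TS.exists_smul_left C H.singE Hp.singE hep t,
      smul_neg, neg_smul]
  have A2 : avgLine C (Hyp.swapFrame C H) ρ ⟨p, (X_swap (B := B) e f).symm ▸ Hp.memE⟩ =
      avgLine C Hp' ρ ⟨-f, Submodule.neg_mem _ hfX⟩ := by
    unfold avgLine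
    congr 1
    refine Finset.sum_congr rfl fun t _ => congrArg ρ (Subtype.ext ?_)
    rw [qhom_coe, qhom_coe, Submodule.coe_smul, Submodule.coe_smul, TS.exists_smul_left C H.singF Hp.singE hfp t,
      smul_neg, neg_smul]
  have hsupp : ∀ v : X B p g, wproj C Hp' ρ v x ≠ 0 → B v.1 e = 0 ∨ B v.1 f = 0 := fun v hv => by
    have hQv : Q v.1 = 0 := by
      by_contra hne
      exact hv (by rw [wproj_eq_zero C Hp' ρ (hS p g Hp' v hne)]; rfl)
    obtain ⟨hpv, hgv⟩ := mem_X.mp v.2
    have hY : ∀ w ∈ perp2 B (X B e f) p g, B v.1 w = 0 := fun w hw => by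
      obtain ⟨hwX, hpw, hgw⟩ := mem_perp2.mp hw
      by_contra hne
      refine psi_primitive (F := F) hne (DFunLike.ext _ _ fun t => ?_)
      have hwm : t • w ∈ X B p g := Submodule.smul_mem _ _ (mem_X.mpr ⟨hpw, hgw⟩)
      have h1 := wproj_fixed C Hp' ρ (w := ⟨t • w, hwm⟩) (x := x)
        (hx (t • w) (Submodule.smul_mem _ _ hw)) hv
      simp only [map_smul, smul_eq_mul] at h1
      rw [AddChar.mulShift_apply, AddChar.one_apply, mul_comm]
      exact h1
    set v' := v.1 - B f v.1 • e - B e v.1 • f with hv'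
    have hv'm : v' ∈ perp2 B (X B e f) p g := by
      have h1 : v' ∈ X B e f := H.proj C trivial
      refine mem_perp2.mpr ⟨h1, ?_, ?_⟩
      · simp [hv', hpv, C.symm p e, C.symm p f, hep, hfp]
      · simp [hv', hgv, C.symm g e, C.symm g f, heg, hfg]
    have hv'0 : v' = 0 := (Hp.ndeg C (X_ndeg C H)) v' hv'm fun w hw => by
      obtain ⟨hwX, hpw, hgw⟩ := mem_perp2.mp hw
      simp [hv', hY w hw, X.left hwX, X.right hwX]
    have hQ : B f v.1 * B e v.1 = 0 := by
      have e1 : v.1 = B f v.1 • e + B e v.1 • f := by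
        rw [hv', sub_sub, sub_eq_zero] at hv'0
        exact hv'0
      rw [e1, C.add, C.smul, C.smul, H.singE, H.singF, map_smul, LinearMap.map_smul₂, H.pair] at hQv
      simpa [mul_comm] using hQv
    rcases mul_eq_zero.mp hQ with h | h
    · exact Or.inr (by rw [C.symm]; exact h)
    · exact Or.inl (by rw [C.symm]; exact h)
  rw [A1, A2, invN_moved, invN_moved, invN_sum_wproj C Hp' ρ x, Finset.sum_filter, Finset.sum_filter,
    ← Finset.sum_add_distrib]
  refine Finset.sum_le_sum fun v _ => ?_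
  by_cases h0 : wproj C Hp' ρ v x = 0
  · simp [h0, invN_zero]
  rcases hsupp v h0 with h | h <;>
  · simp only [map_neg, h, neg_zero, ne_eq, not_true_eq_false, if_false, zero_add, add_zero]
    split_ifs
    · first | exact le_rfl | exact invN_nonneg _ _
    · first | exact invN_nonneg _ _ | exact le_rfl

end Cfsg.Lib.Linear.OrthDeg
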