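import Cfsg.Agent.Lib.Linear.OrthDegree.Odd.Fixed

/-!
# Weights of the fixed space, orbit sums, and bounds for the levels
-/

set_option autoImplicit false

namespace Cfsg.Lib.Linear.OrthDeg

open Module Cfsg.Lib.Linear.Orth Cfsg.Lib.Linear.MinIndexOrth Cfsg.Lib.OrthMult
open scoped Matrix Classical

variable {ι : Type} [Fintype ι] [DecidableEq ι] {F : Type*} [Field F] [Fintype F]
  {Q : (ι → F) → F} {B : LinearMap.BilinForm F (ι → F)}

/-- A lower bound for the levels in odd dimension. -/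
theorem level_odd_ge (C : Space Q B) : ∀ (r : ℕ) {U : Submodule F (ι → F)}, NDeg B U →
    finrank F U = 2 * r + 1 → ∀ c : F,
      (Nat.card F : ℤ) ^ (2 * r) - (Nat.card F : ℤ) ^ r ≤ level Q U c
  | 0, U, _, _, c => by simp
  | r + 1, U, hU, h1, c => by
    obtain ⟨e, f, H⟩ := exists_hyp' C hU (by omega)
    have hd := finrank_step C H
    have h3 := level_step C H c
    have ih := level_odd_ge C r (H.ndeg C hU) (by omega) c
    rw [show finrank F ↥(perp2 B U e f) = 2 * r + 1 by omega] at h3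
    rw [h3]
    have hq : (0 : ℤ) ≤ (Nat.card F : ℤ) := Nat.cast_nonneg _
    have h4 := mul_le_mul_of_nonneg_left ih hq
    linear_combination h4

variable {V : Type*} [AddCommGroup V] [Module ℂ V] [FiniteDimensional ℂ V]

/-- Every non-zero singular vector is a weight. -/
def Full (C : Space Q B) (ρ : Representation ℂ ↥(Root Q B ⊤) V) : Prop :=
  ∀ (e f : ι → F) (H : Hyp Q B ⊤ e f) (v : X B e f), v ≠ 0 → Q v.1 = 0 → mult C H ρ v ≠ 0

variable (C : Space Q B) (ρ : Representation ℂ ↥(Root Q B ⊤) V) {e f : ι → F} (H : Hyp Q B ⊤ e f)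

include C H

theorem eigen_mult {v : X B e f} {x : V} (hx : x ≠ 0)
    (h : ∀ w : X B e f, ρ (qhom C H (Multiplicative.ofAdd w)) x = psi F (B v.1 w.1) • x) :
    mult C H ρ v ≠ 0 := fun hm => hx (by
  rw [← Module.End.one_apply (R := ℂ) x, ← sum_wproj C H ρ, LinearMap.sum_apply]
  refine Finset.sum_eq_zero fun u _ => ?_
  by_cases hu : u = v
  · rw [hu, wproj_eq_zero C H ρ hm]; rfl
  by_contra hne
  refine hu ((th_bijective C H).1 (DFunLike.ext _ _ fun w => ?_))
  have h1 := wproj_apply_qhom C H ρ u w x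
  rw [h w, map_smul] at h1
  have h2 : (psi F (B v.1 w.1) - psi F (B u.1 w.1)) • wproj C H ρ u x = 0 := by
    rw [sub_smul, h1, sub_self]
  rw [th_apply, th_apply]
  exact (sub_eq_zero.mp ((smul_eq_zero.mp h2).resolve_right hne)).symm)

theorem exists_in_weight {v : X B e f} (hm : mult C H ρ v ≠ 0) : ∃ x, x ≠ 0 ∧ wproj C H ρ v x = x := by
  have h0 : wproj C H ρ v ≠ 0 := fun h => hm (by
    rw [mult, h, LinearMap.range_zero, finrank_bot])
  obtain ⟨y, hy⟩ : ∃ y, wproj C H ρ v y ≠ 0 := by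
    by_contra hall
    push Not at hall
    exact h0 (LinearMap.ext hall)
  exact ⟨_, hy, LinearMap.congr_fun (wproj_idem C H ρ v) y⟩

variable (h2 : (2 : F) ≠ 0) (hq : 4 ≤ Fintype.card F) (h5 : 5 ≤ Fintype.card ι) {r : ℕ}
  (hX : finrank F (X B e f) = 2 * r + 1) {p g : ι → F} (Hp : Hyp Q B (X B e f) p g)

include Hp

/-- A torus element carries a weight to one whose value is multiplied by a square. -/
theorem scaled_weight (h5 : 5 ≤ Fintype.card ι) {a : F} (ha : a ≠ 0) (v : X B e f) :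
    ∃ v' : X B e f, Q v'.1 = a ^ 2 * Q v.1 ∧ mult C H ρ v' = mult C H ρ v := by
  obtain ⟨te, tf, -, -, -⟩ := torTwo_act C H Hp ha
  have hT := torTwo_mem C H Hp h5 ha
  have hTf : (torTwo Q e f p g a).val *ᵥ f = (a⁻¹)⁻¹ • f := by rw [inv_inv]; exact tf
  have hX' := act_mem_X C H (root_le_iso C _ hT) (inv_ne_zero ha) te hTf v.2
  refine ⟨⟨a • (torTwo Q e f p g a).val *ᵥ v.1, Submodule.smul_mem _ _ hX'⟩, ?_,
    mult_act C H ρ (g := ⟨_, hT⟩) (inv_ne_zero ha) te hTf ?_⟩
  · show Q (a • _) = _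
    rw [C.smul, mem_iso.mp (root_le_iso C _ hT)]
  · show a • _ = (a⁻¹)⁻¹ • _
    rw [inv_inv]

variable (hone : mult C H ρ ⟨p, Hp.memE⟩ = 1)

include h2 hq h5 hX hone

/-- The orbit sum of a vector of a weight of multiplicity one. -/
theorem orbSum_weight {x0 : V} (hx0 : wproj C H ρ ⟨p, Hp.memE⟩ x0 = x0) (hne : x0 ≠ 0) :
    orbSum ρ e f x0 ∈ fixX ρ e f ⊓ LinearMap.ker (wproj C H ρ 0) ∧
      wproj C H ρ ⟨p, Hp.memE⟩ (orbSum ρ e f x0) ≠ 0 := by
  refine ⟨⟨orbSum_mem ρ x0, ?_⟩, ?_⟩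
  · rw [SetLike.mem_coe, LinearMap.mem_ker, proj_orbSum C ρ H Hp x0 hx0, Finset.sum_eq_zero fun h hh => ?_]
    exact absurd (Finset.mem_filter.mp hh).2 (act_ne_zero (Hyp.ne_zero C Hp).1)
  · rw [proj_orbSum C ρ H Hp x0 hx0, Finset.sum_congr rfl fun h hh => by
      rw [← hx0, ← Module.End.mul_apply, stab_fix C ρ H Hp h2 h5 hone hq hX (h := ⟨h.1, root_mono le_top h.2⟩)
        h.2 (Finset.mem_filter.mp hh).2], Finset.sum_const, hx0, ← Nat.cast_smul_eq_nsmul ℂ]
    refine smul_ne_zero (Nat.cast_ne_zero.mpr (Finset.card_pos.mpr ⟨1, ?_⟩).ne') hne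
    simp

omit hone

/-- Every singular vector of the inner space of parameters is a weight of the fixed space. -/
theorem lift_weight (hF : Full C ρ)
    (hM : ∀ (e' f' : ι → F) (H' : Hyp Q B ⊤ e' f') (v : X B e' f'), v ≠ 0 → Q v.1 = 0 →
      mult C H' ρ v = 1)
    {v : ι → F} (hv : v ∈ perp2 B (X B e f) p g) (hv0 : v ≠ 0) (hQv : Q v = 0) :
    ∃ y, y ≠ 0 ∧ wproj C H ρ 0 y = y ∧ ∀ (w : ι → F) (hw : w ∈ perp2 B (X B e f) p g),
      ρ ⟨sGL Q B p w, sGL_mem_root trivial trivial Hp.singE (mem_perp2.mp hw).2.1⟩ y =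
        psi F (B v w) • y := by
  set Y := perp2 B (X B e f) p g with hY
  have Hp' : Hyp Q B ⊤ p g := Hyp.toTop Hp
  obtain ⟨hvX, hpv, hgv⟩ := mem_perp2.mp hv
  obtain ⟨hep, hfp⟩ := mem_X.mp Hp.memE
  obtain ⟨heg, hfg⟩ := mem_X.mp Hp.memF
  have hYp : ∀ w ∈ Y, w ∈ X B p g := fun w hw => mem_X.mpr ⟨(mem_perp2.mp hw).2.1, (mem_perp2.mp hw).2.2⟩
  have heX : e ∈ X B p g := mem_X.mpr ⟨by rw [C.symm]; exact hep, by rw [C.symm]; exact heg⟩
  have hfX : f ∈ X B p g := mem_X.mpr ⟨by rw [C.symm]; exact hfp, by rw [C.symm]; exact hfg⟩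
  set v' : X B p g := ⟨v, hYp v hv⟩ with hv'
  have hv'0 : v' ≠ 0 := fun h => hv0 (congrArg Subtype.val h)
  obtain ⟨g2, Hv, -, -⟩ := exists_partner C (Hp.ndeg C (X_ndeg C H)) hv (Submodule.zero_mem _)
    (Submodule.zero_mem _) hQv (map_zero _) (map_zero _) (by simpa using hv0)
  obtain ⟨hg2X, hpg2, hgg2⟩ := mem_perp2.mp Hv.memF
  have Hv' : Hyp Q B (X B p g) v g2 := ⟨hYp v hv, hYp g2 Hv.memF, hQv, Hv.singF, Hv.pair⟩
  obtain ⟨x, hx0, hx⟩ := exists_in_weight C ρ Hp' (hF p g Hp' v' hv'0 hQv)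
  have hXp : finrank F (X B p g) = 2 * r + 1 := by
    have h1 := finrank_X C Hp'
    have h3 := finrank_X C H
    omega
  let τ : F → ↥(Root Q B ⊤) := fun c => qhom C H (Multiplicative.ofAdd ⟨c • g2, Submodule.smul_mem _ _ hg2X⟩)
  have hτadd : ∀ c d, τ c * τ d = τ (c + d) := fun c d => by
    simp only [τ, ← map_mul, ← ofAdd_add]
    congr 2
    exact Subtype.ext (add_smul c d g2).symm
  have hτact : ∀ (c : F) z, (τ c : GL ι F).val *ᵥ z = z + (B e z * c) • g2 - (c * B g2 z) • e := fun c z => by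
    show (sGL Q B e (c • g2)).val *ᵥ z = _
    rw [sGL_act C H.singE (by rw [map_smul, X.left hg2X, smul_zero]), C.smul, Hv.singF, smul_smul,
      LinearMap.map_smul₂, smul_eq_mul]
    simp
  have hτp : ∀ c, (τ c : GL ι F).val *ᵥ p = p ∧ (τ c : GL ι F).val *ᵥ g = g := fun c => by
    refine ⟨?_, ?_⟩ <;> rw [hτact]
    · simp [hep, C.symm g2 p, hpg2]
    · simp [heg, C.symm g2 g, hgg2]
  have hτv : ∀ c, (τ c : GL ι F).val *ᵥ v = v - c • e := fun c => by
    rw [hτact]; simp [X.left hvX, Hv.pair' C]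
  have hterm : ∀ c, ∃ hm : v - c • e ∈ X B p g,
      wproj C Hp' ρ ⟨v - c • e, hm⟩ (ρ (τ c) x) = ρ (τ c) x := fun c => by
    have hm : v - c • e ∈ X B p g := Submodule.sub_mem _ (hYp v hv) (Submodule.smul_mem _ _ heX)
    refine ⟨hm, ?_⟩
    have h1 := LinearMap.congr_fun (conj_wproj C Hp' ρ (g := τ c) (v := v') (v' := ⟨v - c • e, hm⟩) one_ne_zero
      (by rw [one_smul]; exact (hτp c).1) (by rw [inv_one, one_smul]; exact (hτp c).2)
      (by rw [inv_one, one_smul]; exact (hτv c).symm)) x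
    rw [Module.End.mul_apply, Module.End.mul_apply, hx] at h1
    exact h1.symm
  set y := ∑ c : F, ρ (τ c) x with hy
  have hy0 : y ≠ 0 := fun h => by
    have h1 : wproj C Hp' ρ v' y = x := by
      rw [hy, map_sum, Finset.sum_eq_single (0 : F) (fun c _ hc => ?_) fun h => absurd (Finset.mem_univ _) h]
      · rw [show τ 0 = 1 by
          simp only [τ, zero_smul]
          exact (qhom C H).map_one, map_one, Module.End.one_apply, hx]
      · obtain ⟨hm, hc'⟩ := hterm c
        rw [← hc', ← Module.End.mul_apply, wproj_ortho C Hp' ρ fun he => hc ?_]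
        · rfl
        · have h3 := congrArg (fun z : X B p g => B f z.1) he
          simp only [hv', map_sub, map_smul, H.pair' C, X.right hvX, smul_eq_mul, mul_one, zero_sub] at h3
          exact neg_eq_zero.mp h3.symm
    exact hx0 (by rw [← h1, h, map_zero])
  -- eigenvector for the Siegel elements with centre `p`
  have heig : ∀ (w : X B p g), B w.1 e = 0 →
      ρ (qhom C Hp' (Multiplicative.ofAdd w)) y = psi F (B v w.1) • y := fun w hwe => by
    rw [hy, map_sum, Finset.smul_sum]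
    refine Finset.sum_congr rfl fun c _ => ?_
    obtain ⟨hm, hc'⟩ := hterm c
    rw [← hc', ← Module.End.mul_apply, rho_mul_wproj, LinearMap.smul_apply]
    congr 2
    simp [C.symm e w.1, hwe]
  -- fixed by the Siegel elements with centre `e` perpendicular to `p`
  have hfix : ∀ w : X B e f, B p w.1 = 0 → ρ (qhom C H (Multiplicative.ofAdd w)) y = y := fun w hpw => by
    set w1 := w.1 - B g w.1 • p with hw1
    have hw1Y : w1 ∈ Y := by
      refine mem_perp2.mpr ⟨Submodule.sub_mem _ w.2 (Submodule.smul_mem _ _ Hp.memE), ?_, ?_⟩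
      · simp [hw1, hpw, C.self_zero Hp.singE]
      · simp [hw1, Hp.pair' C]
    set c0 := B v w1 with hc0
    set w0 := w1 - c0 • g2 with hw0
    have hw0Y : w0 ∈ Y := Submodule.sub_mem _ hw1Y (Submodule.smul_mem _ _ Hv.memF)
    have hvw0 : B v w0 = 0 := by simp [hw0, Hv.pair, hc0]
    have hsplit : qhom C H (Multiplicative.ofAdd w) =
        qhom C H (Multiplicative.ofAdd (B g w.1 • (⟨p, Hp.memE⟩ : X B e f))) * τ c0 *
          qhom C H (Multiplicative.ofAdd ⟨w0, (mem_perp2.mp hw0Y).1⟩) := by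
      simp only [τ, ← map_mul, ← ofAdd_add]
      congr 2
      refine Subtype.ext ?_
      simp [hw0, hw1]
    have f1 : ρ (qhom C H (Multiplicative.ofAdd (⟨w0, (mem_perp2.mp hw0Y).1⟩ : X B e f))) y = y := by
      rw [hy, map_sum]
      refine Finset.sum_congr rfl fun c _ => ?_
      rw [← Module.End.mul_apply, ← map_mul,
        show qhom C H (Multiplicative.ofAdd (⟨w0, (mem_perp2.mp hw0Y).1⟩ : X B e f)) * τ c =
          τ c * qhom C H (Multiplicative.ofAdd ⟨w0, (mem_perp2.mp hw0Y).1⟩) by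
          simp only [τ, ← map_mul]; rw [mul_comm], map_mul, Module.End.mul_apply]
      congr 1
      have hm : (qhom C H (Multiplicative.ofAdd (⟨w0, (mem_perp2.mp hw0Y).1⟩ : X B e f)) : GL ι F) ∈
          Root Q B (X B p g) :=
        sGL_mem_root heX (hYp w0 hw0Y) H.singE (X.left (mem_perp2.mp hw0Y).1)
      have hfixv : (qhom C H (Multiplicative.ofAdd (⟨w0, (mem_perp2.mp hw0Y).1⟩ : X B e f)) : GL ι F).val *ᵥ v = v := by
        rw [qhom_coe, sGL_act C H.singE (X.left (mem_perp2.mp hw0Y).1), X.left hvX, C.symm w0 v, hvw0]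
        simp
      have h1 := stab_fix C ρ Hp' Hv' h2 h5 (hM p g Hp' ⟨v, Hv'.memE⟩ hv'0 hQv) hq hXp hm hfixv
      rw [← hx, ← Module.End.mul_apply]
      exact LinearMap.congr_fun h1 x
    have f2 : ρ (τ c0) y = y := by
      rw [hy, map_sum]
      refine Fintype.sum_equiv (Equiv.addLeft c0) _ _ fun c => ?_
      rw [← Module.End.mul_apply, ← map_mul, hτadd]
      rfl
    have f3 : ρ (qhom C H (Multiplicative.ofAdd (B g w.1 • (⟨p, Hp.memE⟩ : X B e f)))) y = y := by
      have e1 : qhom C H (Multiplicative.ofAdd (B g w.1 • (⟨p, Hp.memE⟩ : X B e f))) =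
          qhom C Hp' (Multiplicative.ofAdd ⟨-(B g w.1) • e, Submodule.smul_mem _ _ heX⟩) := Subtype.ext (by
        rw [qhom_coe, qhom_coe, Submodule.coe_smul, TS.exists_smul_left C H.singE Hp.singE hep])
      rw [e1, heig _ (by simp [C.self_zero H.singE])]
      simp [C.symm v e, X.left hvX]
    rw [hsplit, map_mul, map_mul, Module.End.mul_apply, Module.End.mul_apply, f1, f2, f3]
  have heigY : ∀ (w : ι → F) (hw : w ∈ Y),
      ρ ⟨sGL Q B p w, sGL_mem_root trivial trivial Hp.singE (mem_perp2.mp hw).2.1⟩ y = psi F (B v w) • y :=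
    fun w hw => heig ⟨w, hYp w hw⟩ (by rw [C.symm]; exact X.left (mem_perp2.mp hw).1)
  refine ⟨y, hy0, ?_, heigY⟩
  -- no non-zero weight
  conv_rhs => rw [← Module.End.one_apply (R := ℂ) y, ← sum_wproj C H ρ, LinearMap.sum_apply]
  refine Eq.symm (Finset.sum_eq_single (0 : X B e f) (fun u _ hu => ?_) fun h => absurd (Finset.mem_univ _) h)
  by_contra hne
  -- such a weight is a multiple of `p`
  have hperp : ∀ z ∈ X B e f, B p z = 0 → B u.1 z = 0 := fun z hz hpz => by
    by_contra hz0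
    refine psi_primitive (F := F) hz0 (DFunLike.ext _ _ fun t => ?_)
    have hwm : t • z ∈ X B e f := Submodule.smul_mem _ _ hz
    have h1 := wproj_fixed C H ρ (w := ⟨t • z, hwm⟩) (x := y)
      (hfix _ (by show B p (t • z) = 0; rw [map_smul, hpz, smul_zero])) hne
    simp only [map_smul, smul_eq_mul] at h1
    rw [AddChar.mulShift_apply, AddChar.one_apply, mul_comm]
    exact h1
  set l := B g u.1 with hl
  have hup : u.1 = l • p := by
    have h0 : u.1 - l • p = 0 := X_ndeg C H _ (Submodule.sub_mem _ u.2 (Submodule.smul_mem _ _ Hp.memE))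
      fun z hz => by
        have h1 : B u.1 (z - B p z • g) = 0 :=
          hperp _ (Submodule.sub_mem _ hz (Submodule.smul_mem _ _ Hp.memF)) (by simp [Hp.pair])
        simp only [map_sub, map_smul, smul_eq_mul, C.symm u.1 g, ← hl] at h1
        simp only [map_sub, LinearMap.sub_apply, map_smul, LinearMap.smul_apply, smul_eq_mul]
        linear_combination h1
    exact sub_eq_zero.mp h0
  have hl0 : l ≠ 0 := fun h => hu (Subtype.ext (by rw [hup, h, zero_smul]; rfl))
  have hQu : Q u.1 = 0 := by rw [hup, C.smul, Hp.singE, mul_zero]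
  have Hu : Hyp Q B (X B e f) (l • p) (l⁻¹ • g) :=
    ⟨Submodule.smul_mem _ _ Hp.memE, Submodule.smul_mem _ _ Hp.memF, by rw [C.smul, Hp.singE, mul_zero],
      by rw [C.smul, Hp.singF, mul_zero], by
        rw [map_smul, LinearMap.map_smul₂, Hp.pair, smul_eq_mul, smul_eq_mul]; field_simp⟩
  set u' : X B e f := ⟨l • p, Hu.memE⟩ with hu'
  have huu' : u = u' := Subtype.ext hup
  have hu1 : mult C H ρ u' = 1 := by rw [← huu']; exact hM e f H u hu hQu
  set w := g2 with hwdef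
  have hwY : l⁻¹ • g2 ∈ perp2 B (X B e f) (l • p) (l⁻¹ • g) := by
    refine mem_perp2.mpr ⟨Submodule.smul_mem _ _ hg2X, ?_, ?_⟩
    · rw [LinearMap.map_smul₂, map_smul, hpg2, smul_zero, smul_zero]
    · rw [LinearMap.map_smul₂, map_smul, hgg2, smul_zero, smul_zero]
  refine hne ?_
  by_contra hne'
  refine psi_primitive (F := F) (show B v g2 ≠ 0 by rw [Hv.pair]; exact one_ne_zero) (DFunLike.ext _ _ fun t => ?_)
  have htY : t • g2 ∈ Y := Submodule.smul_mem _ _ Hv.memF
  have hm2 : l⁻¹ • (t • g2) ∈ perp2 B (X B e f) (l • p) (l⁻¹ • g) := by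
    rw [smul_comm]; exact Submodule.smul_mem _ _ hwY
  have h1 := fix_unipotent C ρ H Hu h2 h5 hu1 hm2
  have e1 : (⟨sGL Q B (l • p) (l⁻¹ • (t • g2)), sGL_mem_root trivial trivial Hu.singE (mem_perp2.mp hm2).2.1⟩ :
      ↥(Root Q B ⊤)) = ⟨sGL Q B p (t • g2), sGL_mem_root trivial trivial Hp.singE (mem_perp2.mp htY).2.1⟩ :=
    Subtype.ext (by
      show sGL Q B (l • p) (l⁻¹ • (t • g2)) = sGL Q B p (t • g2)
      rw [sGL_smul C Hp.singE (by rw [map_smul, (mem_perp2.mp htY).2.1, smul_zero]), smul_smul,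
        mul_inv_cancel₀ hl0, one_smul])
  rw [e1] at h1
  set s : ↥(Root Q B ⊤) := ⟨sGL Q B p (t • g2), sGL_mem_root trivial trivial Hp.singE (mem_perp2.mp htY).2.1⟩
  have hsfix : Fixes e f u'.1 s := by
    have hm := sGL_mem_root (Q := Q) Hp.memE (mem_perp2.mp htY).1 Hp.singE (mem_perp2.mp htY).2.1
    refine ⟨(root_fix C H hm).1, (root_fix C H hm).2, ?_⟩
    show (sGL Q B p (t • g2)).val *ᵥ (l • p) = l • p
    rw [Matrix.mulVec_smul, sGL_act C Hp.singE (mem_perp2.mp htY).2.1, C.self_zero Hp.singE,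
      C.symm (t • g2) p, (mem_perp2.mp htY).2.1]
    simp
  have h3 : ρ s (wproj C H ρ u' y) = psi F (B v (t • g2)) • wproj C H ρ u' y := by
    rw [← Module.End.mul_apply, fixes_comm C H ρ hsfix, Module.End.mul_apply, heigY _ htY, map_smul]
  rw [← Module.End.mul_apply, h1] at h3
  rw [huu'] at hne'
  have h4 : (psi F (B v (t • g2)) - 1) • wproj C H ρ u' y = 0 := by rw [sub_smul, one_smul, ← h3, sub_self]
  have h6 := sub_eq_zero.mp ((smul_eq_zero.mp h4).resolve_right hne')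
  rw [map_smul, smul_eq_mul, mul_comm] at h6
  rw [AddChar.mulShift_apply, AddChar.one_apply]
  exact h6

end Cfsg.Lib.Linear.OrthDeg
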