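import Cfsg.Agent.Lib.Linear.OrthDegree.Odd.Step
import Cfsg.Agent.Lib.Linear.OrthOdd

/-!
# The smallest degree of `Ω` in odd dimension
-/

set_option autoImplicit false

namespace Cfsg.Lib.Linear.OrthDeg

open Module Cfsg.Lib.Linear.Orth Cfsg.Lib.Linear.MinIndexOrth Cfsg.Lib.OrthMult
open scoped Matrix

universe u

variable {F : Type u} [Field F] [Fintype F]

/-- The bound for `Ω` of dimension `2 * n + 1`. -/
def DOdd (q : ℕ) : ℕ → ℕ
  | 0 => 0
  | n + 1 => DOdd q n + q ^ (2 * n)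

theorem DOdd_eq (q : ℕ) : ∀ n, (DOdd q n : ℤ) * ((q : ℤ) ^ 2 - 1) = (q : ℤ) ^ (2 * n) - 1
  | 0 => by simp [DOdd]
  | n + 1 => by
    rw [DOdd]
    push_cast
    linear_combination DOdd_eq q n

theorem DOdd_small {q : ℕ} (hq : 4 ≤ q) {r : ℕ} (hr : 2 ≤ r) : DOdd q r + 2 * q ^ r ≤ q ^ (2 * r) := by
  have h := DOdd_eq q r
  have hq' : (4 : ℤ) ≤ q := by exact_mod_cast hq
  have hP : (q : ℤ) ^ 2 ≤ (q : ℤ) ^ r := pow_le_pow_right₀ (by omega) hr
  have h1 : ((DOdd q r + 2 * q ^ r : ℕ) : ℤ) ≤ ((q ^ (2 * r) : ℕ) : ℤ) := by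
    push_cast
    rw [pow_mul', ] at h ⊢
    set P := (q : ℤ) ^ r
    have hP16 : (16 : ℤ) ≤ P := le_trans (by nlinarith) hP
    have hD : 3 * (DOdd q r : ℤ) ≤ P ^ 2 := by
      have h3 := mul_le_mul_of_nonneg_left (show (3 : ℤ) ≤ (q : ℤ) ^ 2 - 1 by nlinarith) (Int.natCast_nonneg (DOdd q r))
      linarith
    nlinarith [mul_le_mul_of_nonneg_left hP16 (show (0 : ℤ) ≤ P by linarith)]
  exact_mod_cast h1

theorem minRep_odd (h2 : (2 : F) ≠ 0) (hq : 4 ≤ Fintype.card F) : ∀ (s : ℕ) (ι : Type) [Fintype ι]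
    [DecidableEq ι] (Q : (ι → F) → F) (B : LinearMap.BilinForm F (ι → F)), Space Q B →
    Fintype.card ι = 2 * (s + 3) + 1 → MinRep ↥(Root Q B ⊤) (DOdd (Nat.card F) (s + 3)) := by
  have hq' : 4 ≤ Nat.card F := by rwa [Nat.card_eq_fintype_card]
  intro s
  induction s with
  | zero =>
    intro ι _ _ Q B C hd k ρ hne
    have e : DOdd (Nat.card F) 2 = Nat.card F ^ 2 + 1 := by simp [DOdd, add_comm]
    show DOdd (Nat.card F) 2 + Nat.card F ^ (2 * 2) ≤ k
    rw [add_comm]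
    refine odd_step C h2 hq le_rfl (by omega) (DOdd_small hq' le_rfl)
      (fun d Q' B' C' hd' V' _ _ _ σ hF => ?_) ρ hne
    rw [e]
    exact five_bound C' h2 hq (by rw [Fintype.card_fin]; omega) σ hF
  | succ s ih =>
    intro ι _ _ Q B C hd k ρ hne
    show DOdd (Nat.card F) (s + 3) + Nat.card F ^ (2 * (s + 3)) ≤ k
    rw [add_comm]
    refine odd_step C h2 hq (by omega) (by omega) (DOdd_small hq' (by omega))
      (fun d Q' B' C' hd' V' _ _ _ σ hF => ?_) ρ hne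
    exact (ih (Fin d) Q' B' C' (by rw [Fintype.card_fin]; omega)).le_finrank σ
      (full_nontrivial C' (by rw [Fintype.card_fin]; omega) σ hF)

/-- The smallest degree of `Ω` in dimension `2 * n + 1`. -/
theorem omega_odd_degree (n : ℕ) (hn : 3 ≤ n) (hodd : Odd (Fintype.card F)) (h3 : 3 < Fintype.card F) (k : ℕ)
    (ρ : Representation ℂ (Cfsg.Omega F (Cfsg.quadFormOdd n F)) (Fin k → ℂ)) (hρ : ρ.IsIrreducible)
    (hk : 2 ≤ k) : (Fintype.card F ^ (2 * n) - 1) / (Fintype.card F ^ 2 - 1) ≤ k := by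
  classical
  obtain ⟨s, rfl⟩ : ∃ s, n = s + 3 := ⟨n - 3, by omega⟩
  have h2 := two_ne_zero_of_odd_card hodd
  obtain ⟨B, C⟩ := exists_space (isQuad_odd (F := F) (s + 3) h2)
  have hc := card_odd_index (s + 3)
  have h5 : 5 ≤ Fintype.card (Unit ⊕ (Fin (s + 3) ⊕ Fin (s + 3))) := by omega
  let e0 : ↥(Cfsg.Omega F (Cfsg.quadFormOdd (s + 3) F)) ≃* ↥(Root (Cfsg.quadFormOdd (s + 3) F) B ⊤) :=
    ((Cfsg.Omega F (Cfsg.quadFormOdd (s + 3) F)).equivMapOfInjective _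
      (isometryGroup F (Cfsg.quadFormOdd (s + 3) F)).subtype_injective).trans
      (MulEquiv.subgroupCongr (omegaGL_eq C h5))
  have hG := (minRep_odd (F := F) h2 h3 s _ _ B C hc).of_surjective e0.symm.toMonoidHom e0.symm.surjective
  have hne : ∃ g, ρ g ≠ 1 := by
    by_contra hall
    push Not at hall
    haveI := hρ
    haveI : Nonempty (Fin k) := ⟨⟨0, by omega⟩⟩
    obtain ⟨v, hv⟩ : ∃ v : Fin k → ℂ, v ≠ 0 := exists_ne 0
    rcases ((Cfsg.Lib.Char.isIrreducible_iff_submodule ρ).mp hρ).2 (ℂ ∙ v)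
      (fun g x hx => by rw [hall g]; exact hx) with h | h
    · exact hv (Submodule.span_singleton_eq_bot.mp h)
    · have h4 := finrank_span_singleton (K := ℂ) hv
      rw [h, finrank_top, Module.finrank_fin_fun] at h4
      omega
  refine le_trans (le_of_eq ?_) (hG k ρ hne)
  have hq1 : 1 ≤ Fintype.card F := Fintype.card_pos
  rw [Nat.card_eq_fintype_card]
  have hsq : 4 ≤ Fintype.card F ^ 2 := by nlinarith
  refine Nat.div_eq_of_eq_mul_left (by omega) ?_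
  have h := DOdd_eq (Fintype.card F) (s + 3)
  zify [Nat.one_le_pow (2 * (s + 3)) _ hq1, Nat.one_le_pow 2 _ hq1]
  linear_combination -h

end Cfsg.Lib.Linear.OrthDeg
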