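import Cfsg.Agent.Lib.Linear.OrthDegree.Step
import Mathlib.Analysis.RCLike.Basic

/-!
# An invariant positive form and the part of a vector moved by a Siegel element
-/

set_option autoImplicit false

namespace Cfsg.Lib.Linear.OrthDeg

open Module Cfsg.Lib.Linear.Orth Cfsg.Lib.Linear.MinIndexOrth Cfsg.Lib.Linear.MinDegree
open scoped Matrix Classical ComplexConjugate

section Inv

variable {G : Type*} [Group G] [Fintype G] {V : Type*} [AddCommGroup V] [Module ℂ V] [FiniteDimensional ℂ V]
  (ρ : Representation ℂ G V)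

/-- An invariant sesquilinear form. -/
noncomputable def invI (x y : V) : ℂ :=
  ∑ g : G, ∑ i, conj ((Module.finBasis ℂ V).repr (ρ g x) i) * (Module.finBasis ℂ V).repr (ρ g y) i

/-- The square of the invariant norm. -/
noncomputable def invN (x : V) : ℝ :=
  ∑ g : G, ∑ i, Complex.normSq ((Module.finBasis ℂ V).repr (ρ g x) i)

theorem invI_self (x : V) : invI ρ x x = (invN ρ x : ℂ) := by
  simp [invI, invN, Complex.normSq_eq_conj_mul_self]

theorem invN_nonneg (x : V) : 0 ≤ invN ρ x :=
  Finset.sum_nonneg fun _ _ => Finset.sum_nonneg fun _ _ => Complex.normSq_nonneg _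

theorem invN_zero : invN ρ 0 = 0 := by simp [invN]

theorem invN_pos {x : V} (hx : x ≠ 0) : 0 < invN ρ x := by
  refine lt_of_le_of_ne (invN_nonneg ρ x) fun h => hx ?_
  have h1 := (Finset.sum_eq_zero_iff_of_nonneg fun g _ =>
    Finset.sum_nonneg fun _ _ => Complex.normSq_nonneg _).1 h.symm 1 (Finset.mem_univ _)
  have h2 := (Finset.sum_eq_zero_iff_of_nonneg fun _ _ => Complex.normSq_nonneg _).1 h1
  refine (Module.finBasis ℂ V).repr.injective (Finsupp.ext fun i => ?_)
  have := h2 i (Finset.mem_univ _)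
  simpa [map_one] using this

theorem invI_act (h : G) (x y : V) : invI ρ (ρ h x) (ρ h y) = invI ρ x y := by
  refine Fintype.sum_equiv (Equiv.mulRight h) _ _ fun g => ?_
  simp [map_mul]

theorem invN_act (h : G) (x : V) : invN ρ (ρ h x) = invN ρ x := by
  refine Fintype.sum_equiv (Equiv.mulRight h) _ _ fun g => ?_
  simp [map_mul]

theorem invI_smul (a b : ℂ) (x y : V) : invI ρ (a • x) (b • y) = conj a * b * invI ρ x y := by
  simp only [invI, Finset.mul_sum, map_smul, Finsupp.smul_apply, smul_eq_mul, map_mul]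
  exact Finset.sum_congr rfl fun g _ => Finset.sum_congr rfl fun i _ => by ring

theorem invI_sum {κ : Type*} (s : Finset κ) (f g : κ → V) :
    invI ρ (∑ i ∈ s, f i) (∑ j ∈ s, g j) = ∑ i ∈ s, ∑ j ∈ s, invI ρ (f i) (g j) := by
  simp only [invI, map_sum, Finsupp.finsetSum_apply, Finset.sum_mul_sum]
  calc ∑ x : G, ∑ i, ∑ j ∈ s, ∑ k ∈ s,
        conj ((Module.finBasis ℂ V).repr (ρ x (f j)) i) * (Module.finBasis ℂ V).repr (ρ x (g k)) i
      = ∑ x : G, ∑ j ∈ s, ∑ k ∈ s, ∑ i,
          conj ((Module.finBasis ℂ V).repr (ρ x (f j)) i) * (Module.finBasis ℂ V).repr (ρ x (g k)) i :=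
        Finset.sum_congr rfl fun x _ => by
          rw [Finset.sum_comm]
          exact Finset.sum_congr rfl fun j _ => Finset.sum_comm
    _ = _ := by
        rw [Finset.sum_comm]
        exact Finset.sum_congr rfl fun j _ => Finset.sum_comm

theorem invN_sum_ortho {κ : Type*} (s : Finset κ) (f : κ → V)
    (h : ∀ i ∈ s, ∀ j ∈ s, i ≠ j → invI ρ (f i) (f j) = 0) :
    invN ρ (∑ i ∈ s, f i) = ∑ i ∈ s, invN ρ (f i) := by
  have h1 : invI ρ (∑ i ∈ s, f i) (∑ i ∈ s, f i) = ∑ i ∈ s, invI ρ (f i) (f i) := by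
    rw [invI_sum]
    exact Finset.sum_congr rfl fun i hi =>
      Finset.sum_eq_single_of_mem i hi fun j hj hji => h i hi j hj (Ne.symm hji)
  simp only [invI_self] at h1
  exact_mod_cast h1

end Inv

variable {ι : Type} [Fintype ι] [DecidableEq ι] {F : Type*} [Field F] [Fintype F]
  {Q : (ι → F) → F} {B : LinearMap.BilinForm F (ι → F)}
  (C : Space Q B) {e f : ι → F} (H : Hyp Q B ⊤ e f)
  {V : Type*} [AddCommGroup V] [Module ℂ V] [FiniteDimensional ℂ V]
  (ρ : Representation ℂ ↥(Root Q B ⊤) V)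

theorem wproj_apply_qhom (v w : X B e f) (x : V) :
    wproj C H ρ v (ρ (qhom C H (Multiplicative.ofAdd w)) x) = psi F (B v.1 w.1) • wproj C H ρ v x := by
  have h := proj_mul_R (ρ.comp (qhom C H)) (th B v) w
  exact LinearMap.congr_fun h x

/-- A vector fixed by a Siegel element lies in the weights trivial on it. -/
theorem wproj_fixed {v w : X B e f} {x : V} (hx : ρ (qhom C H (Multiplicative.ofAdd w)) x = x)
    (hp : wproj C H ρ v x ≠ 0) : psi F (B v.1 w.1) = 1 := by
  have h := wproj_apply_qhom C H ρ v w x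
  rw [hx] at h
  by_contra hne
  have h2 : (psi F (B v.1 w.1) - 1) • wproj C H ρ v x = 0 := by rw [sub_smul, one_smul, ← h, sub_self]
  rcases smul_eq_zero.mp h2 with h3 | h3
  · exact hne (sub_eq_zero.mp h3)
  · exact hp h3

variable [Fintype ↥(Root Q B ⊤)]

include C in
theorem invI_wproj {v v' : X B e f} (h : v ≠ v') (x y : V) :
    invI ρ (wproj C H ρ v x) (wproj C H ρ v' y) = 0 := by
  obtain ⟨w, hw⟩ : ∃ w, th B v w ≠ th B v' w := by
    by_contra h'
    push Not at h'
    exact h ((th_bijective C H).1 (DFunLike.ext _ _ h'))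
  have e1 : ∀ (u : X B e f) (z : V), ρ (qhom C H (Multiplicative.ofAdd w)) (wproj C H ρ u z) =
      th B u w • wproj C H ρ u z := fun u z => LinearMap.congr_fun (rho_mul_wproj C H ρ u w) z
  have h1 := invI_act ρ (qhom C H (Multiplicative.ofAdd w)) (wproj C H ρ v x) (wproj C H ρ v' y)
  rw [e1, e1, invI_smul, ← AddChar.map_neg_eq_conj] at h1
  have h2 : th B v (-w) * th B v' w - 1 ≠ 0 := fun h3 => hw (by
    have h4 := sub_eq_zero.mp h3
    calc th B v w = th B v w * (th B v (-w) * th B v' w) := by rw [h4, mul_one]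
      _ = th B v' w := by rw [← mul_assoc, ← AddChar.map_add_eq_mul, add_neg_cancel,
          AddChar.map_zero_eq_one, one_mul])
  exact (mul_eq_zero.mp (show (th B v (-w) * th B v' w - 1) *
    invI ρ (wproj C H ρ v x) (wproj C H ρ v' y) = 0 by linear_combination h1)).resolve_left h2

theorem invN_sum_wproj (x : V) : invN ρ x = ∑ v, invN ρ (wproj C H ρ v x) := by
  conv_lhs => rw [← Module.End.one_apply (R := ℂ) x, ← sum_wproj C H ρ, LinearMap.sum_apply]
  exact invN_sum_ortho ρ _ _ fun i _ j _ hij => invI_wproj C H ρ hij x x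

omit [Fintype ↥(Root Q B ⊤)] in
/-- The average of a line of Siegel elements. -/
noncomputable def avgLine (w : X B e f) : Module.End ℂ V :=
  (Nat.card F : ℂ)⁻¹ • ∑ t : F, ρ (qhom C H (Multiplicative.ofAdd (t • w)))

omit [Fintype ↥(Root Q B ⊤)] in
theorem wproj_avgLine (v w : X B e f) (x : V) :
    wproj C H ρ v (avgLine C H ρ w x) = if B v.1 w.1 = 0 then wproj C H ρ v x else 0 := by
  have hs : ∑ t : F, psi F (B v.1 (t • w).1) = if B v.1 w.1 = 0 then (Nat.card F : ℂ) else 0 := by
    simp only [Submodule.coe_smul, LinearMap.map_smul, smul_eq_mul]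
    by_cases h : B v.1 w.1 = 0
    · rw [if_pos h, h]; simp [Nat.card_eq_fintype_card]
    · rw [if_neg h]
      exact (Fintype.sum_equiv (Equiv.mulRight₀ _ h) (fun t => psi F (t * B v.1 w.1)) (psi F) fun t => rfl).trans
        (AddChar.sum_eq_zero_of_ne_one psi_ne_one)
  simp only [avgLine, LinearMap.smul_apply, LinearMap.sum_apply, map_smul, map_sum, wproj_apply_qhom,
    ← Finset.sum_smul, hs, smul_smul]
  by_cases h : B v.1 w.1 = 0
  · rw [if_pos h, if_pos h, inv_mul_cancel₀ (Nat.cast_ne_zero.mpr Nat.card_pos.ne'), one_smul]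
  · rw [if_neg h, if_neg h, mul_zero, zero_smul]

/-- The norm of the part moved by a line of Siegel elements. -/
theorem invN_moved (w : X B e f) (x : V) :
    invN ρ (x - avgLine C H ρ w x) =
      ∑ v ∈ Finset.univ.filter (fun v : X B e f => B v.1 w.1 ≠ 0), invN ρ (wproj C H ρ v x) := by
  rw [invN_sum_wproj C H ρ, Finset.sum_filter]
  refine Finset.sum_congr rfl fun v _ => ?_
  rw [map_sub, wproj_avgLine]
  by_cases h : B v.1 w.1 = 0
  · rw [if_pos h, sub_self, invN_zero, if_neg (not_not.mpr h)]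
  · rw [if_neg h, sub_zero, if_pos h]

end Cfsg.Lib.Linear.OrthDeg
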