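import Cfsg.Agent.Lib.Linear.OrthDegree.Odd.Geo

/-!
# The stabiliser of a singular weight acts trivially on a weight space of dimension one
-/

set_option autoImplicit false

namespace Cfsg.Lib.Linear.OrthDeg

open Module Cfsg.Lib.Linear.Orth Cfsg.Lib.Linear.MinIndexOrth Cfsg.Lib.OrthMult
open scoped Matrix

variable {ι : Type} [Fintype ι] [DecidableEq ι] {F : Type*} [Field F] [Fintype F]
  {Q : (ι → F) → F} {B : LinearMap.BilinForm F (ι → F)}

theorem exists_line (C : Space Q B) {U : Submodule F (ι → F)} (hU : NDeg B U) (h1 : finrank F U = 1) :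
    ∃ w ∈ U, Q w ≠ 0 ∧ U ≤ Submodule.span F {w} := by
  obtain ⟨w, hw, hQ⟩ := exists_nonsing C hU (fun h => by rw [h, finrank_bot] at h1; omega)
  have hw0 : w ≠ 0 := fun h => hQ (by rw [h, C.zero])
  refine ⟨w, hw, hQ, le_of_eq (Submodule.eq_of_le_of_finrank_eq (Submodule.span_le.mpr ?_) ?_).symm⟩
  · simpa using hw
  · rw [finrank_span_singleton hw0, h1]

variable {V : Type*} [AddCommGroup V] [Module ℂ V] [FiniteDimensional ℂ V]
  (C : Space Q B) (ρ : Representation ℂ ↥(Root Q B ⊤) V)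

/-- The elements which fix the range of an operator. -/
def fixOp (P : Module.End ℂ V) : Subgroup ↥(Root Q B ⊤) where
  carrier := {h | ρ h * P = P}
  one_mem' := by simp
  mul_mem' {a b} ha hb := by
    simp only [Set.mem_setOf_eq] at ha hb ⊢
    rw [map_mul, mul_assoc, hb, ha]
  inv_mem' {a} ha := by
    simp only [Set.mem_setOf_eq] at ha ⊢
    conv_lhs => rw [← ha, ← mul_assoc, ← map_mul, inv_mul_cancel, map_one, one_mul]

variable {e f : ι → F} (H : Hyp Q B ⊤ e f)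

include C H

/-- If a torus element turns a fixing element into a product with it, the latter fixes the weight space. -/
theorem fix_of_twist {v : X B e f} (hv : mult C H ρ v = 1) {T y : ↥(Root Q B ⊤)} {c : F} (hc : c ≠ 0)
    (hTe : (T : GL ι F).val *ᵥ e = c • e) (hTf : (T : GL ι F).val *ᵥ f = c⁻¹ • f)
    (hTv : v.1 = c⁻¹ • (T : GL ι F).val *ᵥ v.1) (hy : Fixes e f v.1 y) {z : ↥(Root Q B ⊤)}
    (hz : T * y * T⁻¹ = z * y) (hzf : Fixes e f v.1 z) : ρ z * wproj C H ρ v = wproj C H ρ v := by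
  set P := wproj C H ρ v with hP
  have hP1 : P * P = P := wproj_idem C H ρ v
  have ht : LinearMap.trace ℂ V P = 1 := by rw [hP, trace_wproj, hv, Nat.cast_one]
  set a := LinearMap.trace ℂ V (ρ y * P)
  set b := LinearMap.trace ℂ V (ρ z * P)
  have hyP : ρ y * P = a • P := mul_rank_one hP1 ht (fixes_comm C H ρ hy)
  have hzP : ρ z * P = b • P := mul_rank_one hP1 ht (fixes_comm C H ρ hzf)
  have hTP : ρ T * P = P * ρ T := conj_wproj C H ρ hc hTe hTf hTv
  have hTTP : ρ T⁻¹ * P = P * ρ T⁻¹ := by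
    calc ρ T⁻¹ * P = ρ T⁻¹ * (P * ρ T) * ρ T⁻¹ := by
          rw [mul_assoc, mul_assoc, ← map_mul ρ T T⁻¹, mul_inv_cancel, map_one, mul_one]
      _ = P * ρ T⁻¹ := by rw [← hTP, ← mul_assoc, ← map_mul, inv_mul_cancel, map_one, one_mul]
  have e1 : ρ (T * y * T⁻¹) * P = a • P := by
    rw [map_mul, map_mul, mul_assoc, hTTP, ← mul_assoc, mul_assoc (ρ T), hyP, mul_smul_comm, smul_mul_assoc,
      hTP, mul_assoc, ← map_mul, mul_inv_cancel, map_one, mul_one]
  have e2 : ρ (z * y) * P = (a * b) • P := by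
    rw [map_mul, mul_assoc, hyP, mul_smul_comm, hzP, smul_smul]
  have hP0 : P ≠ 0 := fun h => by rw [h, map_zero] at ht; exact zero_ne_one ht
  rw [hz, e2] at e1
  have ha : a ≠ 0 := fun ha => by
    rw [ha, zero_smul] at hyP
    have h9 : ρ y⁻¹ * (ρ y * P) = 0 := by rw [hyP, mul_zero]
    rw [← mul_assoc, ← map_mul, inv_mul_cancel, map_one, one_mul] at h9
    exact hP0 h9
  have hb : b = 1 := by
    have h : (a * b - a) • P = 0 := by rw [sub_smul, e1, sub_self]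
    exact mul_left_cancel₀ ha (by
      rw [mul_one]; exact sub_eq_zero.mp ((smul_eq_zero.mp h).resolve_right hP0))
  rw [hzP, hb, one_smul]

variable {p g : ι → F} (Hp : Hyp Q B (X B e f) p g) (h2 : (2 : F) ≠ 0) (h5 : 5 ≤ Fintype.card ι)
  (hv : mult C H ρ ⟨p, Hp.memE⟩ = 1)

include Hp h2 h5 hv

theorem fix_unipotent {a : ι → F} (ha : a ∈ perp2 B (X B e f) p g) :
    ρ ⟨sGL Q B p a, sGL_mem_root trivial trivial Hp.singE (mem_perp2.mp ha).2.1⟩ *
      wproj C H ρ ⟨p, Hp.memE⟩ = wproj C H ρ ⟨p, Hp.memE⟩ := by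
  obtain ⟨haX, hpa, hga⟩ := mem_perp2.mp ha
  have hi : (2 : F)⁻¹ ≠ 0 := inv_ne_zero h2
  obtain ⟨te, tf, tp, tg, tx⟩ := torTwo_act C H Hp hi
  rw [inv_inv] at te tp
  set T : ↥(Root Q B ⊤) := ⟨_, torTwo_mem C H Hp h5 hi⟩ with hT
  set y : ↥(Root Q B ⊤) := ⟨sGL Q B p a, sGL_mem_root trivial trivial Hp.singE hpa⟩ with hy
  have hfix : Fixes e f p y := by
    have hm := sGL_mem_root (Q := Q) Hp.memE haX Hp.singE hpa
    refine ⟨(root_fix C H hm).1, (root_fix C H hm).2, ?_⟩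
    rw [hy, sGL_act C Hp.singE hpa, C.self_zero Hp.singE, C.symm a p, hpa]
    simp
  refine fix_of_twist C ρ H hv (T := T) (y := y) h2 te (by rw [tf]) ?_ hfix ?_ hfix
  · show p = (2 : F)⁻¹ • (T : GL ι F).val *ᵥ p
    rw [hT, tp, smul_smul, inv_mul_cancel₀ h2, one_smul]
  · refine Subtype.ext ?_
    rw [Subgroup.coe_mul, Subgroup.coe_mul, Subgroup.coe_inv, Subgroup.coe_mul, hT, hy]
    show torTwo Q e f p g 2⁻¹ * sGL Q B p a * (torTwo Q e f p g 2⁻¹)⁻¹ = sGL Q B p a * sGL Q B p a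
    rw [sGL_conj C Hp.singE hpa (root_le_iso C _ (torTwo_mem C H Hp h5 hi)), tp,
      tx a (X.left haX) (X.right haX) hpa hga, sGL_smul C Hp.singE hpa, sGL_mul C Hp.singE hpa hpa, two_smul]

theorem root_fix_weight (hq : 4 ≤ Fintype.card F) {h : ↥(Root Q B ⊤)}
    (hh : (h : GL ι F) ∈ Root Q B (perp2 B (X B e f) p g)) :
    ρ h * wproj C H ρ ⟨p, Hp.memE⟩ = wproj C H ρ ⟨p, Hp.memE⟩ := by
  set Y := perp2 B (X B e f) p g with hY
  have hYX : Y ≤ X B e f := fun x hx => (mem_perp2.mp hx).1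
  obtain ⟨μ, hμ0, hμ⟩ := exists_mu hq
  have key : Root Q B Y ≤ (fixOp ρ (wproj C H ρ ⟨p, Hp.memE⟩)).map (Root Q B ⊤).subtype := by
    refine (Subgroup.closure_le _).mpr ?_
    rintro _ ⟨u, a, hu, ha, hQu, hua, rfl⟩
    refine ⟨⟨sGL Q B u a, sGL_mem_root trivial trivial hQu hua⟩, ?_, rfl⟩
    show ρ _ * _ = _
    by_cases hdep : u = 0 ∨ a ∈ Submodule.span F {u}
    · have h1 : sGL Q B u a = 1 := by
        rcases hdep with rfl | hm
        · exact sGL_trivial C
        · obtain ⟨t, rfl⟩ := Submodule.mem_span_singleton.mp hm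
          have h := sGL_add_self C hQu (a := 0) (map_zero _) t
          rw [zero_add, sGL_one C hQu] at h
          exact h
      rw [show (⟨sGL Q B u a, sGL_mem_root trivial trivial hQu hua⟩ : ↥(Root Q B ⊤)) = 1 from Subtype.ext h1,
        map_one, one_mul]
    push Not at hdep
    set a' := ((μ⁻¹ ^ 2)⁻¹ - 1)⁻¹ • a with ha'
    have hc0 : (μ⁻¹ ^ 2)⁻¹ - 1 ≠ 0 := by rw [inv_pow, inv_inv]; exact sub_ne_zero.mpr hμ
    have ha'Y : a' ∈ Y := Submodule.smul_mem _ _ ha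
    have hua' : B u a' = 0 := by rw [ha', map_smul, hua, smul_zero]
    obtain ⟨g2, Hu, -, hag2⟩ := exists_partner C (Hp.ndeg C (X_ndeg C H)) hu (Submodule.zero_mem _) ha'Y hQu
      (map_zero _) hua' (by
        rw [Submodule.mem_span_pair]
        rintro ⟨s, t, hst⟩
        rw [smul_zero, zero_add, ha', smul_smul] at hst
        have ht : t * ((μ⁻¹ ^ 2)⁻¹ - 1)⁻¹ ≠ 0 := fun h0 => hdep.1 (by rw [← hst, h0, zero_smul])
        exact hdep.2 (Submodule.mem_span_singleton.mpr ⟨(t * ((μ⁻¹ ^ 2)⁻¹ - 1)⁻¹)⁻¹, by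
          rw [← hst, smul_smul, inv_mul_cancel₀ ht, one_smul]⟩))
    have hmu : μ⁻¹ ^ 2 ≠ 0 := pow_ne_zero _ (inv_ne_zero hμ0)
    obtain ⟨t1, t2, t3⟩ := torGL_act C Hu hmu
    have hTm := torGL_square_mem C Hu h5 (inv_ne_zero hμ0)
    have hperpY : ∀ x, x = e ∨ x = f ∨ x = p → ∀ z ∈ Y, B z x = 0 := fun x hx z hz => by
      obtain ⟨hzX, hpz, -⟩ := mem_perp2.mp hz
      rw [C.symm]
      rcases hx with rfl | rfl | rfl
      exacts [X.left hzX, X.right hzX, hpz]
    have hTfix : ∀ x, x = e ∨ x = f ∨ x = p → (torGL Q u g2 (μ⁻¹ ^ 2)).val *ᵥ x = x := fun x hx =>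
      t3 x (hperpY x hx u hu) (hperpY x hx g2 Hu.memF)
    have hfix : ∀ b ∈ Y, ∀ hub : B u b = 0,
        Fixes e f p (⟨sGL Q B u b, sGL_mem_root trivial trivial hQu hub⟩ : ↥(Root Q B ⊤)) := fun b hb hub => by
      refine ⟨?_, ?_, ?_⟩ <;> show (sGL Q B u b).val *ᵥ _ = _ <;> rw [sGL_act C hQu hub]
      · simp [hperpY e (by simp) u hu, hperpY e (by simp) b hb]
      · simp [hperpY f (by simp) u hu, hperpY f (by simp) b hb]
      · simp [hperpY p (by simp) u hu, hperpY p (by simp) b hb]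
    refine fix_of_twist C ρ H hv (T := ⟨_, hTm⟩) (y := ⟨sGL Q B u a', sGL_mem_root trivial trivial hQu hua'⟩)
      one_ne_zero ?_ ?_ ?_ (hfix a' ha'Y hua') ?_ (hfix a ha hua)
    · rw [one_smul]; exact hTfix e (by simp)
    · rw [inv_one, one_smul]; exact hTfix f (by simp)
    · rw [inv_one, one_smul]; exact (hTfix p (by simp)).symm
    · refine Subtype.ext ?_
      rw [Subgroup.coe_mul, Subgroup.coe_mul, Subgroup.coe_inv, Subgroup.coe_mul]
      show torGL Q u g2 (μ⁻¹ ^ 2) * sGL Q B u a' * (torGL Q u g2 (μ⁻¹ ^ 2))⁻¹ = sGL Q B u a * sGL Q B u a'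
      rw [sGL_conj C hQu hua' (root_le_iso C _ hTm), t1,
        t3 a' hua' (by rw [C.symm]; exact hag2), sGL_smul C hQu hua', sGL_mul C hQu hua hua']
      congr 1
      rw [ha', smul_smul, show ((μ⁻¹ ^ 2)⁻¹) * ((μ⁻¹ ^ 2)⁻¹ - 1)⁻¹ = 1 + ((μ⁻¹ ^ 2)⁻¹ - 1)⁻¹ by
        field_simp; ring, add_smul, one_smul]
  obtain ⟨h', hh', e'⟩ := key hh
  rwa [Subtype.ext e'] at hh'

/-- The stabiliser of a singular weight fixes its weight space. -/
theorem stab_fix (hq : 4 ≤ Fintype.card F) {r : ℕ} (hX : finrank F (X B e f) = 2 * r + 1)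
    {h : ↥(Root Q B ⊤)} (hh : (h : GL ι F) ∈ Root Q B (X B e f)) (hp : (h : GL ι F).val *ᵥ p = p) :
    ρ h * wproj C H ρ ⟨p, Hp.memE⟩ = wproj C H ρ ⟨p, Hp.memE⟩ := by
  have hI := root_le_iso C _ h.2
  obtain ⟨y, hy, hyz⟩ := fix_partner C Hp one_ne_zero (z := (h : GL ι F).val *ᵥ g) (root_mem_U C hh Hp.memF)
    (by rw [mem_iso.mp hI, Hp.singF]) (by
      have h1 := C.B_act hI p g
      rwa [hp, Hp.pair] at h1)
  rw [one_smul] at hyz
  obtain ⟨hyX, hpy, -⟩ := mem_perp2.mp hy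
  set k : ↥(Root Q B ⊤) := ⟨sGL Q B p y, sGL_mem_root trivial trivial Hp.singE hpy⟩ with hk
  set h' : ↥(Root Q B ⊤) := k⁻¹ * h with hh'
  have h'X : (h' : GL ι F) ∈ Root Q B (X B e f) :=
    mul_mem (inv_mem (sGL_mem_root Hp.memE hyX Hp.singE hpy)) hh
  have h'p : (h' : GL ι F).val *ᵥ p = p := by
    show ((sGL Q B p y)⁻¹ * (h : GL ι F)).val *ᵥ p = p
    rw [mul_act, hp, inv_sGL_fix C Hp hy]
  have h'g : (h' : GL ι F).val *ᵥ g = g := by
    show ((sGL Q B p y)⁻¹ * (h : GL ι F)).val *ᵥ g = g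
    rw [mul_act, ← hyz, inv_act]
  obtain ⟨h'e, h'f⟩ := root_fix C H h'X
  suffices hkey : ρ h' * wproj C H ρ ⟨p, Hp.memE⟩ = wproj C H ρ ⟨p, Hp.memE⟩ by
    rw [show h = k * h' by rw [hh', mul_inv_cancel_left], map_mul, mul_assoc, hkey]
    exact fix_unipotent C ρ H Hp h2 h5 hv hy
  have hd := finrank_step C Hp
  have hYn := Hp.ndeg C (X_ndeg C H)
  -- the vectors perpendicular to a part of `Y` are combinations of `e`, `f`, `p`, `g` and vectors of `Y`
  have hsplit : ∀ x, ∃ x0 ∈ perp2 B (X B e f) p g, ∃ a b c d : F,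
      x = x0 + a • e + b • f + c • p + d • g := fun x => by
    set x1 := x - B f x • e - B e x • f
    exact ⟨_, Hp.proj C (x := x1) (H.proj C trivial), B f x, B e x, B g x1, B p x1, by simp only [x1]; abel⟩
  have hgen : ∀ x0 ∈ perp2 B (X B e f) p g, ∀ a b c d : F, (h' : GL ι F).val *ᵥ x0 = x0 →
      (h' : GL ι F).val *ᵥ (x0 + a • e + b • f + c • p + d • g) = x0 + a • e + b • f + c • p + d • g :=
    fun x0 _ a b c d hx => by
      simp only [Matrix.mulVec_add, Matrix.mulVec_smul, hx, h'e, h'f, h'p, h'g]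
  by_cases h1 : r = 1
  · obtain ⟨w, hw, hQw, hle⟩ := exists_line C hYn (by omega)
    obtain ⟨hwX, hpw, hgw⟩ := mem_perp2.mp hw
    have hperp : ∀ x, B p x = 0 → B g x = 0 → B w x = 0 → (h' : GL ι F).val *ᵥ x = x := fun x xp xg xw => by
      obtain ⟨x0, hx0, a, b, c, d, rfl⟩ := hsplit x
      refine hgen x0 hx0 a b c d ?_
      obtain ⟨t, rfl⟩ := Submodule.mem_span_singleton.mp (hle hx0)
      have ht : t = 0 := by
        have h3 : B w w ≠ 0 := by rw [C.self]; exact mul_ne_zero h2 hQw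
        simpa [C.symm w e, C.symm w f, C.symm w p, C.symm w g, X.left hwX, X.right hwX, hpw, hgw, h3] using xw
      simp [ht]
    have := (three_scale C h2 h5 (Hyp.toTop Hp) hpw hgw hQw h'.2 hperp one_ne_zero
      (by rw [inv_one, one_smul]; exact h'p)).2 rfl h'g
    rw [show h' = 1 from Subtype.ext this, map_one, one_mul]
  refine root_fix_weight C ρ H Hp h2 h5 hv hq ?_
  by_cases h3 : r = 2
  · obtain ⟨p2, g2, H2⟩ := exists_hyp' C hYn (by omega)
    have hd2 := finrank_step C H2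
    obtain ⟨w, hw, hQw, hle⟩ := exists_line C (H2.ndeg C hYn) (by omega)
    obtain ⟨hwY, hpw, hgw⟩ := mem_perp2.mp hw
    refine three_root C h2 h5 H2 hwY hpw hgw hQw h'.2 fun x xp xg xw => ?_
    obtain ⟨x0, hx0, a, b, c, d, rfl⟩ := hsplit x
    refine hgen x0 hx0 a b c d ?_
    have hz : ∀ z ∈ perp2 B (X B e f) p g, B z (x0 + a • e + b • f + c • p + d • g) = B z x0 := fun z hz => by
      obtain ⟨hzX, hpz, hgz⟩ := mem_perp2.mp hz
      simp [C.symm z e, C.symm z f, C.symm z p, C.symm z g, X.left hzX, X.right hzX, hpz, hgz]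
    rw [hz p2 H2.memE] at xp
    rw [hz g2 H2.memF] at xg
    rw [hz w hwY] at xw
    have h0 := H2.proj C hx0
    rw [xg, xp, zero_smul, zero_smul, sub_zero, sub_zero] at h0
    obtain ⟨t, ht⟩ := Submodule.mem_span_singleton.mp (hle h0)
    have h4 : B w w ≠ 0 := by rw [C.self]; exact mul_ne_zero h2 hQw
    rw [← ht, map_smul, smul_eq_mul] at xw
    rw [← ht, (mul_eq_zero.mp xw).resolve_right h4, zero_smul, Matrix.mulVec_zero]
  · have hA : NDeg B (Submodule.span F ({e, f, p, g} : Set (ι → F))) := fun x hx hall => by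
      simp only [Submodule.mem_span_insert, Submodule.mem_span_singleton] at hx
      obtain ⟨a, _, ⟨b, _, ⟨c, _, ⟨d, rfl⟩, rfl⟩, rfl⟩, rfl⟩ := hx
      obtain ⟨hep, hfp⟩ := mem_X.mp Hp.memE
      obtain ⟨heg, hfg⟩ := mem_X.mp Hp.memF
      have e1 := hall e (Submodule.subset_span (by simp))
      have e2 := hall f (Submodule.subset_span (by simp))
      have e3 := hall p (Submodule.subset_span (by simp))
      have e4 := hall g (Submodule.subset_span (by simp))
      simp [C.self_zero H.singE, C.self_zero H.singF, C.self_zero Hp.singE, C.self_zero Hp.singF, H.pair,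
        H.pair' C, Hp.pair, Hp.pair' C, hep, hfp, heg, hfg, C.symm p e, C.symm p f, C.symm g e, C.symm g f]
        at e1 e2 e3 e4
      simp [e1, e2, e3, e4]
    have hEq : orth B (Submodule.span F ({e, f, p, g} : Set (ι → F))) = perp2 B (X B e f) p g := by
      ext x
      rw [mem_orth_span, mem_perp2, mem_X]
      simp [and_assoc]
    rw [← hEq]
    refine mem_root_orth C h2 hA (by rw [hEq]; omega) h'.2 fun a ha => ?_
    simp only [Submodule.mem_span_insert, Submodule.mem_span_singleton] at ha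
    obtain ⟨a1, _, ⟨b1, _, ⟨c1, _, ⟨d1, rfl⟩, rfl⟩, rfl⟩, rfl⟩ := ha
    simp only [Matrix.mulVec_add, Matrix.mulVec_smul, h'e, h'f, h'p, h'g]

end Cfsg.Lib.Linear.OrthDeg
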