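import Cfsg.Agent.Lib.Linear.OrthDegree.Odd.Five

/-!
# One step of the induction in odd dimension
-/

set_option autoImplicit false

namespace Cfsg.Lib.Linear.OrthDeg

open Module Cfsg.Lib.Linear.Orth Cfsg.Lib.Linear.MinIndexOrth Cfsg.Lib.OrthMult
open scoped Matrix Classical

variable {F : Type*} [Field F] [Fintype F]

theorem full_nontrivial {ι : Type} [Fintype ι] [DecidableEq ι] {Q : (ι → F) → F}
    {B : LinearMap.BilinForm F (ι → F)} {V : Type*} [AddCommGroup V] [Module ℂ V] [FiniteDimensional ℂ V]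
    (C : Space Q B) (hd : 5 ≤ Fintype.card ι) (ρ : Representation ℂ ↥(Root Q B ⊤) V) (hF : Full C ρ) :
    ∃ g, ρ g ≠ 1 := by
  by_contra hall
  push Not at hall
  obtain ⟨e, f, H⟩ := exists_hyp' C C.ndeg_top (by rw [finrank_top, finrank_fintype_fun_eq_card]; omega)
  obtain ⟨p, g, Hp⟩ := exists_hyp' C (X_ndeg C H) (by have := finrank_X C H; omega)
  obtain ⟨x, hx0, hx⟩ := exists_in_weight C ρ H (v := ⟨p, Hp.memE⟩)
    (hF e f H _ (fun h => (Hyp.ne_zero C Hp).1 (congrArg Subtype.val h)) Hp.singE)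
  have h1 := fixed_eq_proj C ρ H (z := x) fun w => by rw [hall]; rfl
  rw [← h1, ← Module.End.mul_apply, wproj_ortho C H ρ
    fun h => (Hyp.ne_zero C Hp).1 (congrArg Subtype.val h), LinearMap.zero_apply] at hx
  exact hx0 (h1.symm.trans hx.symm)

/-- A representation with eigenvectors for every singular weight and a fixed vector. -/
theorem succ_le_of_full {d : ℕ} {Q' : (Fin d → F) → F} {B' : LinearMap.BilinForm F (Fin d → F)}
    (C' : Space Q' B') {W : Type} [AddCommGroup W] [Module ℂ W] [FiniteDimensional ℂ W]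
    (σ : Representation ℂ ↥(Root Q' B' ⊤) W)
    (hlift : ∀ (e' f' : Fin d → F) (H' : Hyp Q' B' ⊤ e' f') (v : X B' e' f'), v ≠ 0 → Q' v.1 = 0 →
      ∃ y : W, y ≠ 0 ∧ ∀ w : X B' e' f',
        σ (qhom C' H' (Multiplicative.ofAdd w)) y = psi F (B' v.1 w.1) • y)
    {L : ℕ} (hL : ∀ (V' : Type) [AddCommGroup V'] [Module ℂ V'] [FiniteDimensional ℂ V']
      (τ : Representation ℂ ↥(Root Q' B' ⊤) V'), Full C' τ → L ≤ finrank ℂ V')
    {t : W} (ht0 : t ≠ 0) (ht : ∀ g, σ g t = t) : L + 1 ≤ finrank ℂ W := by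
  haveI := Fintype.ofFinite ↥(Root Q' B' ⊤)
  haveI : Invertible (Fintype.card ↥(Root Q' B' ⊤) : ℂ) :=
    invertibleOfNonzero (Nat.cast_ne_zero.2 Fintype.card_ne_zero)
  haveI : Invertible (Nat.card ↥(Root Q' B' ⊤) : ℂ) := invertibleOfNonzero (Nat.cast_ne_zero.2 Nat.card_pos.ne')
  have hproj := Representation.isProj_averageMap σ
  have hcomm : ∀ g y, σ.averageMap (σ g y) = σ g (σ.averageMap y) := fun g y => by
    have h1 : σ.averageMap (σ g y) = σ.averageMap y := by
      simp only [Representation.averageMap, GroupAlgebra.average, map_sum, map_smul, LinearMap.smul_apply,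
        LinearMap.sum_apply, MonoidAlgebra.of_apply, Representation.asAlgebraHom_single_one]
      congr 1
      exact Fintype.sum_equiv (Equiv.mulRight g) _ _ fun a => by
        rw [Equiv.coe_mulRight, map_mul, Module.End.mul_apply]
    rw [h1]
    exact (hproj.map_mem y g).symm
  let U : Subrepresentation σ := ⟨LinearMap.ker σ.averageMap, fun g y hy => by
    rw [LinearMap.mem_ker, hcomm, LinearMap.mem_ker.mp hy, map_zero]⟩
  have hFull : Full (V := ↥U.toSubmodule) C' U.toRepresentation := by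
    intro e' f' H' v hv hQv
    obtain ⟨y, hy0, heig⟩ := hlift e' f' H' v hv hQv
    have havg : σ.averageMap y = 0 := by
      by_contra ha
      have hall : ∀ w : X B' e' f', psi F (B' v.1 w.1) = 1 := fun w => by
        have h1 := hcomm (qhom C' H' (Multiplicative.ofAdd w)) y
        rw [heig, map_smul, hproj.map_mem y] at h1
        have h3 : (psi F (B' v.1 w.1) - 1) • σ.averageMap y = 0 := (sub_smul _ _ _).trans (by rw [h1, one_smul, sub_self])
        exact sub_eq_zero.mp ((smul_eq_zero.mp h3).resolve_right ha)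
      refine hv ((th_bijective C' H').1 (DFunLike.ext _ _ fun w => ?_))
      rw [th_apply, th_apply, hall]
      simp
    have hyU : y ∈ U.toSubmodule := LinearMap.mem_ker.mpr havg
    exact eigen_mult (V := ↥U.toSubmodule) C' U.toRepresentation H' (x := ⟨y, hyU⟩)
      (fun h => hy0 (congrArg Subtype.val h)) fun w => Subtype.ext (heig w)
  have hLU := hL ↥U.toSubmodule U.toRepresentation hFull
  have hlt : finrank ℂ ↥U.toSubmodule < finrank ℂ W := by
    refine Submodule.finrank_lt fun htop => ht0 ?_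
    have h1 : t ∈ U.toSubmodule := by rw [htop]; trivial
    rw [← hproj.map_id t ht]
    exact h1
  omega

/-- One step: the part outside the weight zero and the fixed space. -/
theorem odd_step {ι : Type} [Fintype ι] [DecidableEq ι] {Q : (ι → F) → F}
    {B : LinearMap.BilinForm F (ι → F)} (C : Space Q B) (h2 : (2 : F) ≠ 0) (hq : 4 ≤ Fintype.card F) {r : ℕ}
    (hr : 2 ≤ r) (hd : Fintype.card ι = 2 * r + 3) {L : ℕ}
    (hLs : L + 2 * Nat.card F ^ r ≤ Nat.card F ^ (2 * r))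
    (hL : ∀ (d : ℕ) (Q' : (Fin d → F) → F) (B' : LinearMap.BilinForm F (Fin d → F)) (C' : Space Q' B'),
      d = 2 * r + 1 → ∀ (V' : Type) [AddCommGroup V'] [Module ℂ V'] [FiniteDimensional ℂ V']
      (σ : Representation ℂ ↥(Root Q' B' ⊤) V'), Full C' σ → L ≤ finrank ℂ V')
    {k : ℕ} (ρ : Representation ℂ ↥(Root Q B ⊤) (Fin k → ℂ)) (hne : ∃ g, ρ g ≠ 1) :
    Nat.card F ^ (2 * r) + L ≤ k := by
  by_contra hlt
  push Not at hlt
  haveI := Fintype.ofFinite ↥(Root Q B ⊤)
  have h5 : 5 ≤ Fintype.card ι := by omega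
  have h7 : 7 ≤ Fintype.card ι := by omega
  have hfin : finrank ℂ (Fin k → ℂ) = k := Module.finrank_fin_fun ℂ
  have hX : ∀ {e f : ι → F}, Hyp Q B ⊤ e f → finrank F (X B e f) = 2 * r + 1 := fun H => by
    have := finrank_X C H; omega
  have hq2 : 2 ≤ Nat.card F := Finite.one_lt_card
  have hP : 4 ≤ Nat.card F ^ r := le_trans (by norm_num : 4 ≤ 2 ^ 2)
    ((Nat.pow_le_pow_left hq2 2).trans (Nat.pow_le_pow_right (by omega) hr))
  have hO : ∀ {e f : ι → F}, Hyp Q B ⊤ e f →
      (orb Q B e f (0 : F)).card + 1 = Nat.card F ^ (2 * r) := fun {e f} H => by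
    have h1 := card_orb_odd C h2 H (hX H)
    have h3 : (((orb Q B e f (0 : F)).card + 1 : ℕ) : ℤ) = ((Nat.card F ^ (2 * r) : ℕ) : ℤ) := by
      push_cast; linarith
    exact_mod_cast h3
  obtain ⟨μ, hμ0, hμ⟩ := exists_mu hq
  have hS : SingW C ρ := fun e f H v hQv => by
    by_contra hm
    obtain ⟨p, g, Hp⟩ := exists_hyp' C (X_ndeg C H) (by rw [hX H]; omega)
    obtain ⟨v', hQ', hm'⟩ := scaled_weight C ρ H Hp h5 hμ0 v
    have hne0 : v ≠ 0 := fun h => hQv (by rw [h]; exact C.zero)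
    have hne0' : v' ≠ 0 := fun h => by
      rw [h, Submodule.coe_zero, C.zero] at hQ'
      exact mul_ne_zero (pow_ne_zero 2 hμ0) hQv hQ'.symm
    have hcc : Q v.1 ≠ Q v'.1 := fun h => hμ (by
      rw [hQ'] at h
      exact mul_right_cancel₀ hQv (by linear_combination -h))
    have h1 := two_orb_le C h7 H ρ hcc (mem_orb.mpr ⟨hne0, rfl⟩) (mem_orb.mpr ⟨hne0', rfl⟩) hm (by rw [hm']; exact hm)
    have hlev : ∀ c : F, c ≠ 0 → Nat.card F ^ (2 * r) ≤ (orb Q B e f c).card + Nat.card F ^ r := fun c hc => by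
      have a1 := card_orb C (e := e) (f := f) c
      rw [del_ne hc] at a1
      have a2 := level_odd_ge C r (X_ndeg C H) (hX H) c
      have a3 : ((Nat.card F ^ (2 * r) : ℕ) : ℤ) ≤ (((orb Q B e f c).card + Nat.card F ^ r : ℕ) : ℤ) := by
        push_cast; linarith
      exact_mod_cast a3
    have b1 := hlev _ hQv
    have b2 := hlev (Q v'.1) (by rw [hQ']; exact mul_ne_zero (pow_ne_zero 2 hμ0) hQv)
    omega
  have hF : Full C ρ := fun e f H v hv hQv => by
    obtain ⟨u, hu, hm⟩ := exists_weight C H ρ h5 hne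
    have hQu : Q u.1 = 0 := by
      by_contra h
      exact hm (hS e f H u h)
    rwa [mult_trans C H ρ h7 hv hu (by rw [hQv, hQu])]
  have hM : ∀ (e f : ι → F) (H : Hyp Q B ⊤ e f) (v : X B e f), v ≠ 0 → Q v.1 = 0 → mult C H ρ v = 1 := by
    intro e f H v hv hQv
    have h1 := orb_mul_le C h7 H ρ (mem_orb.mpr ⟨hv, hQv⟩)
    have h3 := hF e f H v hv hQv
    have := hO H
    by_contra h
    have h4 := Nat.mul_le_mul_left (orb Q B e f (0 : F)).card (show 2 ≤ mult C H ρ v by omega)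
    omega
  obtain ⟨e, f, H⟩ := exists_hyp' C C.ndeg_top (by rw [finrank_top, finrank_fintype_fun_eq_card]; omega)
  have hXe := hX H
  obtain ⟨p₀, g₀, Hp₀⟩ := exists_hyp' C (X_ndeg C H) (by rw [hXe]; omega)
  have hone₀ := hM e f H ⟨p₀, Hp₀.memE⟩ (fun h => (Hyp.ne_zero C Hp₀).1 (congrArg Subtype.val h)) Hp₀.singE
  obtain ⟨x, hx0, hx⟩ := exists_in_weight C ρ H (v := ⟨p₀, Hp₀.memE⟩) (by rw [hone₀]; exact one_ne_zero)
  obtain ⟨hu, hu0⟩ := orbSum_weight C ρ H h2 hq h5 hXe Hp₀ hone₀ hx hx0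
  have Hp₀' : Hyp Q B (X B f e) p₀ g₀ := by rw [X_swap]; exact Hp₀
  have hfix := finrank_fixed_le C ρ H Hp₀ h5 hS (frac_large C h2 H Hp₀ hr hXe)
    (frac_large C h2 (Hyp.swapFrame C H) Hp₀' hr (by rw [X_swap, hXe]))
  have hpos : 0 < finrank ℂ ↥(fixX ρ e f ⊓ LinearMap.ker (wproj C H ρ 0)) := by
    refine Module.finrank_pos_iff_exists_ne_zero.mpr ⟨⟨_, hu⟩, fun h => hu0 ?_⟩
    rw [show orbSum ρ e f x = 0 from congrArg Subtype.val h, map_zero]
  obtain ⟨s, hs⟩ := Module.finrank_pos_iff_exists_ne_zero.mp (lt_of_lt_of_le hpos hfix)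
  -- the fixed space in coordinates
  have S := split_orth C (A := orth B (X B e f)) (split_orth C (X_ndeg C H)).ndU
  have hU : orth B (orth B (X B e f)) = X B e f := by
    refine (Submodule.eq_of_le_of_finrank_eq (fun x hx => mem_orth.2 fun a ha => by
      rw [C.symm]; exact mem_orth.1 ha x hx) ?_).symm
    have h1 := orth_finrank C (A := X B e f) (X_ndeg C H)
    have h3 := orth_finrank C (A := orth B (X B e f)) (split_orth C (X_ndeg C H)).ndU
    omega
  rw [hU] at S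
  obtain ⟨Q', B', φ, K⟩ := exists_coord_sub C S
  set σ : Representation ℂ ↥(Root Q' B' ⊤) ↥(LinearMap.range (wproj C H ρ 0)) :=
    (fixRep C H ρ).comp K.rootEquiv.toMonoidHom with hσ
  have hsucc := succ_le_of_full K.space' σ (fun e' f' H' v hv hQv => by
    have Hp : Hyp Q B (X B e f) (φ e') (φ f') :=
      ⟨K.memU _, K.memU _, by rw [K.map_q]; exact H'.singE, by rw [K.map_q]; exact H'.singF,
        by rw [K.map_b]; exact H'.pair⟩
    have hvY : φ v.1 ∈ perp2 B (X B e f) (φ e') (φ f') :=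
      mem_perp2.mpr ⟨K.memU _, by rw [K.map_b]; exact X.left v.2, by rw [K.map_b]; exact X.right v.2⟩
    have hv0 : φ v.1 ≠ 0 := fun h => hv (Subtype.ext (K.inj (by rw [h]; simp)))
    obtain ⟨y, hy0, hyP, hyeig⟩ := lift_weight C ρ H h2 hq h5 hXe Hp hF hM hvY hv0 (by rw [K.map_q, hQv])
    refine ⟨⟨y, ⟨y, hyP⟩⟩, fun h => hy0 (congrArg Subtype.val h), fun w => Subtype.ext ?_⟩
    show ((fixRep C H ρ (K.rootEquiv (qhom K.space' H' (Multiplicative.ofAdd w))) ⟨y, ⟨y, hyP⟩⟩ :
      LinearMap.range (wproj C H ρ 0)) : Fin k → ℂ) = psi F (B' v.1 w.1) • y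
    rw [fixRep_coe, ← K.map_b]
    have hwY : φ w.1 ∈ perp2 B (X B e f) (φ e') (φ f') :=
      mem_perp2.mpr ⟨K.memU _, by rw [K.map_b]; exact X.left w.2, by rw [K.map_b]; exact X.right w.2⟩
    rw [← hyeig _ hwY]
    refine congrArg (fun g => ρ g y) (Subtype.ext ?_)
    show K.emb (sGL Q' B' e' w.1) = sGL Q B (φ e') (φ w.1)
    exact K.emb_sGL H'.singE (X.left w.2))
    (hL _ Q' B' K.space' hXe) (t := ⟨s.1, s.2.2⟩)
    (fun h => hs (Subtype.ext (by simpa using congrArg Subtype.val h))) fun g => Subtype.ext (by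
      show ((fixRep C H ρ (K.rootEquiv g) ⟨s.1, s.2.2⟩ : LinearMap.range (wproj C H ρ 0)) : Fin k → ℂ) = s.1
      rw [fixRep_coe]
      exact s.2.1 _ (K.rootEquiv g).2)
  have hsum := sum_mult_le C H ρ (insert 0 (orb Q B e f (0 : F)))
  rw [Finset.sum_insert (fun h => (mem_orb.mp h).1 rfl), Finset.sum_congr rfl fun u hu =>
    hM e f H u (mem_orb.mp hu).1 (mem_orb.mp hu).2, Finset.sum_const, smul_eq_mul, mul_one, hfin] at hsum
  have := hO H
  have : finrank ℂ ↥(LinearMap.range (wproj C H ρ 0)) = mult C H ρ 0 := rfl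
  omega

end Cfsg.Lib.Linear.OrthDeg
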