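import Cfsg.Agent.Lib.Linear.OrthDegree.Odd.Key
import Cfsg.Agent.Lib.Linear.OrthDegree.Descend

/-!
# Tori in odd characteristic, and their spinor norm
-/

set_option autoImplicit false

namespace Cfsg.Lib.Linear.OrthDeg

open Module Cfsg.Lib.Linear.Orth Cfsg.Lib.Linear.MinIndexOrth Cfsg.Lib.OrthMult
open scoped Matrix commutatorElement

variable {ι : Type} [Fintype ι] [DecidableEq ι] {F : Type*} [Field F]
  {Q : (ι → F) → F} {B : LinearMap.BilinForm F (ι → F)}
  (C : Space Q B) {U : Submodule F (ι → F)} {p g : ι → F} (H : Hyp Q B U p g)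

/-- The torus element of a hyperbolic pair. -/
noncomputable def torGL (Q : (ι → F) → F) (p g : ι → F) (a : F) : GL ι F :=
  rGL Q (p + a • g) * rGL Q (p + g)

/-- The torus element of two hyperbolic pairs. -/
noncomputable def torTwo (Q : (ι → F) → F) (e f p g : ι → F) (a : F) : GL ι F :=
  (rGL Q (e + a • f) * rGL Q (p + a • g)) * (rGL Q (e + f) * rGL Q (p + g))

include C H

theorem Q_pg (a : F) : Q (p + a • g) = a := by
  rw [C.add, C.smul, H.singE, H.singF, map_smul, H.pair]; simp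

theorem Q_pg_one : Q (p + g) = 1 := by simpa using Q_pg C H 1

theorem torGL_act {a : F} (ha : a ≠ 0) :
    (torGL Q p g a).val *ᵥ p = a⁻¹ • p ∧ (torGL Q p g a).val *ᵥ g = a • g ∧
      ∀ x, B p x = 0 → B g x = 0 → (torGL Q p g a).val *ᵥ x = x := by
  have h1 : Q (p + g) ≠ 0 := by rw [Q_pg_one C H]; exact one_ne_zero
  have h2 : Q (p + a • g) ≠ 0 := by rwa [Q_pg C H]
  refine ⟨?_, ?_, fun x hp hg => ?_⟩
  · rw [torGL, mul_act, rGL_act C h1, Q_pg_one C H, map_add, LinearMap.add_apply, C.self_zero H.singE,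
      H.pair' C, zero_add, inv_one, one_mul, one_smul, sub_add_cancel_left, rGL_act C h2, Q_pg C H, map_neg,
      map_add, LinearMap.add_apply, H.pair, map_smul, LinearMap.smul_apply, C.self_zero H.singF]
    match_scalars <;> field_simp <;> ring
  · rw [torGL, mul_act, rGL_act C h1, Q_pg_one C H, map_add, LinearMap.add_apply, C.self_zero H.singF,
      H.pair, add_zero, inv_one, one_mul, one_smul, sub_add_cancel_right, rGL_act C h2, Q_pg C H, map_neg,
      map_add, LinearMap.add_apply, C.self_zero H.singE, map_smul, LinearMap.smul_apply, H.pair' C]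
    match_scalars <;> field_simp <;> ring
  · rw [torGL, mul_act, rGL_fix C h1 (by simp [hp, hg]), rGL_fix C h2 (by simp [hp, hg])]

omit H
variable {e f : ι → F} (He : Hyp Q B ⊤ e f) (Hp : Hyp Q B (X B e f) p g)
include He Hp

theorem torTwo_act {a : F} (ha : a ≠ 0) :
    (torTwo Q e f p g a).val *ᵥ e = a⁻¹ • e ∧ (torTwo Q e f p g a).val *ᵥ f = a • f ∧
    (torTwo Q e f p g a).val *ᵥ p = a⁻¹ • p ∧ (torTwo Q e f p g a).val *ᵥ g = a • g ∧
      ∀ x, B e x = 0 → B f x = 0 → B p x = 0 → B g x = 0 → (torTwo Q e f p g a).val *ᵥ x = x := by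
  obtain ⟨hep, hfp⟩ := mem_X.mp Hp.memE
  obtain ⟨heg, hfg⟩ := mem_X.mp Hp.memF
  have h1 : Q (p + g) ≠ 0 := by rw [Q_pg_one C Hp]; exact one_ne_zero
  have h2 : Q (p + a • g) ≠ 0 := by rwa [Q_pg C Hp]
  have k1 : Q (e + f) ≠ 0 := by rw [Q_pg_one C He]; exact one_ne_zero
  have k2 : Q (e + a • f) ≠ 0 := by rwa [Q_pg C He]
  obtain ⟨a1, a2, a3⟩ := torGL_act C He ha
  obtain ⟨b1, b2, b3⟩ := torGL_act C Hp ha
  rw [torGL] at a1 a2 a3 b1 b2 b3
  simp only [mul_act] at a1 a2 a3 b1 b2 b3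
  have hpe : ∀ x, x = e ∨ x = f → B (p + g) x = 0 ∧ B (p + a • g) x = 0 := fun x hx => by
    rcases hx with rfl | rfl
    · simp [C.symm p x, C.symm g x, hep, heg]
    · simp [C.symm p x, C.symm g x, hfp, hfg]
  have hep' : ∀ x, x = p ∨ x = g → B (e + f) x = 0 ∧ B (e + a • f) x = 0 := fun x hx => by
    rcases hx with rfl | rfl
    · simp [hep, hfp]
    · simp [heg, hfg]
  refine ⟨?_, ?_, ?_, ?_, fun x xe xf xp xg => ?_⟩
  · rw [torTwo, mul_act, mul_act, mul_act, rGL_fix C h1 (hpe e (Or.inl rfl)).1, rGL_fix C h2, a1]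
    rw [rGL_act C k1]; simp [(hpe e (Or.inl rfl)).2, (hpe f (Or.inr rfl)).2, hep, hfp, C.symm p e, C.symm g e,
      C.symm p f, C.symm g f, heg, hfg]
  · rw [torTwo, mul_act, mul_act, mul_act, rGL_fix C h1 (hpe f (Or.inr rfl)).1, rGL_fix C h2, a2]
    rw [rGL_act C k1]; simp [(hpe e (Or.inl rfl)).2, (hpe f (Or.inr rfl)).2, hep, hfp, C.symm p e, C.symm g e,
      C.symm p f, C.symm g f, heg, hfg]
  · rw [torTwo, mul_act, mul_act, mul_act, rGL_fix C k1 (x := (rGL Q (p + g)).val *ᵥ p), b1,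
      rGL_fix C k2]
    · simp [hep, hfp]
    · rw [rGL_act C h1]; simp [hep, hfp, heg, hfg]
  · rw [torTwo, mul_act, mul_act, mul_act, rGL_fix C k1 (x := (rGL Q (p + g)).val *ᵥ g), b2,
      rGL_fix C k2]
    · simp [heg, hfg]
    · rw [rGL_act C h1]; simp [hep, hfp, heg, hfg]
  · rw [torTwo, mul_act, mul_act, mul_act, rGL_fix C h1 (by simp [xp, xg]), rGL_fix C k1 (by simp [xe, xf]),
      rGL_fix C h2 (by simp [xp, xg]), rGL_fix C k2 (by simp [xe, xf])]

theorem torTwo_mem [Finite F] (h5 : 5 ≤ Fintype.card ι) {a : F} (ha : a ≠ 0) :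
    torTwo Q e f p g a ∈ Root Q B ⊤ :=
  mul_mem (rGL_mul_rGL_root C h5 (by rwa [Q_pg C He]) (by rw [Q_pg C He, Q_pg C Hp]))
    (rGL_mul_rGL_root C h5 (by rw [Q_pg_one C He]; exact one_ne_zero) (by rw [Q_pg_one C He, Q_pg_one C Hp]))

omit He Hp

variable [Fintype F]

include H in
theorem torGL_square_mem (h5 : 5 ≤ Fintype.card ι) {μ : F} (hμ : μ ≠ 0) :
    torGL Q p g (μ ^ 2) ∈ Root Q B ⊤ := by
  have ha : Q (p + μ ^ 2 • g) ≠ 0 := by rw [Q_pg C H]; exact pow_ne_zero _ hμ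
  have hb : Q (p + g) ≠ 0 := by rw [Q_pg_one C H]; exact one_ne_zero
  rw [← omegaGL_eq C h5]
  refine ⟨rI C _ ha * rI C _ hb, rI_mul_mem_comm C (Or.inr (by omega)) ha hb ?_, rfl⟩
  rw [Q_pg C H, Q_pg_one C H, div_one]
  exact IsSquare.sq μ

theorem detSpin_root (h2 : (2 : F) ≠ 0) (h5 : 5 ≤ Fintype.card ι) {h : GL ι F} (hh : h ∈ Root Q B ⊤) :
    detSpin Q ⟨h, root_le_iso C _ hh⟩ = 1 := by
  rw [← omegaGL_eq C h5, Cfsg.Geo.omegaGL] at hh
  obtain ⟨y, hy, hyg⟩ := hh
  change y ∈ commutator _ at hy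
  rw [(omega_odd C h2 (by omega)).1, MonoidHom.mem_ker] at hy
  rw [← hy]
  exact congrArg _ (Subtype.ext hyg.symm)

include H in
/-- A torus element or its product with a reflection in `Ω` is a square torus element. -/
theorem root_torus (h2 : (2 : F) ≠ 0) (h5 : 5 ≤ Fintype.card ι) {w : ι → F} (hQw : Q w ≠ 0)
    (hpw : B p w = 0) (hgw : B g w = 0) {h : GL ι F} (hh : h ∈ Root Q B ⊤) {a : F} (ha : a ≠ 0)
    (hp : h.val *ᵥ p = a⁻¹ • p) (hg : h.val *ᵥ g = a • g) (hw : h.val *ᵥ w = w ∨ h.val *ᵥ w = -w)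
    (hrest : ∀ x, B p x = 0 → B g x = 0 → B w x = 0 → h.val *ᵥ x = x) :
    IsSquare a ∧ h.val *ᵥ w = w := by
  classical
  obtain ⟨t1, t2, t3⟩ := torGL_act C H ha
  have hww : B w w ≠ 0 := by rw [C.self]; exact mul_ne_zero h2 hQw
  have hdec : ∀ k : GL ι F, k.val *ᵥ p = h.val *ᵥ p → k.val *ᵥ g = h.val *ᵥ g → k.val *ᵥ w = h.val *ᵥ w →
      (∀ x, B p x = 0 → B g x = 0 → B w x = 0 → k.val *ᵥ x = x) → k = h := fun k kp kg kw kr => by
    refine gl_ext fun x => ?_
    set x0 := x - B g x • p - B p x • g - (B w x / B w w) • w with hx0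
    have h1 : B p x0 = 0 := by simp [hx0, C.self_zero H.singE, H.pair, hpw]
    have h3 : B g x0 = 0 := by simp [hx0, C.self_zero H.singF, H.pair' C, hgw]
    have h4 : B w x0 = 0 := by
      simp [hx0, C.symm w p, C.symm w g, hpw, hgw, hww]
    have e : x = x0 + B g x • p + B p x • g + (B w x / B w w) • w := by rw [hx0]; abel
    rw [e, Matrix.mulVec_add, Matrix.mulVec_add, Matrix.mulVec_add, Matrix.mulVec_add, Matrix.mulVec_add,
      Matrix.mulVec_add, Matrix.mulVec_smul, Matrix.mulVec_smul, Matrix.mulVec_smul, Matrix.mulVec_smul,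
      Matrix.mulVec_smul, Matrix.mulVec_smul, kp, kg, kw, kr x0 h1 h3 h4, hrest x0 h1 h3 h4]
  have ha' : Q (p + a • g) ≠ 0 := by rwa [Q_pg C H]
  have hb : Q (p + g) ≠ 0 := by rw [Q_pg_one C H]; exact one_ne_zero
  have hds := detSpin_root C h2 h5 hh
  rcases hw with hw | hw
  · refine ⟨?_, hw⟩
    have hk := hdec (torGL Q p g a) (t1.trans hp.symm) (t2.trans hg.symm) ((t3 w hpw hgw).trans hw.symm)
      fun x x1 x2 _ => t3 x x1 x2
    have e : (⟨h, root_le_iso C _ hh⟩ : ↥(isometryGroup F Q)) = rI C _ ha' * rI C _ hb := Subtype.ext hk.symm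
    have hs := congrArg Prod.snd hds
    rw [e, map_mul] at hs
    change spin Q (rI C _ ha') * spin Q (rI C _ hb) = 1 at hs
    rw [spin_rI C h2 ha', spin_rI C h2 hb, Q_pg C H, Q_pg_one C H, if_pos IsSquare.one] at hs
    by_contra hns
    rw [if_neg hns] at hs
    exact absurd hs (by decide)
  · exfalso
    have hk := hdec (torGL Q p g a * rGL Q w) ?_ ?_ ?_ fun x x1 x2 x3 => by
      rw [mul_act, rGL_fix C hQw x3]; exact t3 x x1 x2
    · have e : (⟨h, root_le_iso C _ hh⟩ : ↥(isometryGroup F Q)) =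
          rI C _ ha' * rI C _ hb * rI C _ hQw := Subtype.ext hk.symm
      have hs := congrArg Prod.fst hds
      rw [e, map_mul, map_mul] at hs
      change Matrix.GeneralLinearGroup.det ((rI C _ ha' : ↥(isometryGroup F Q)) : GL ι F) *
        Matrix.GeneralLinearGroup.det ((rI C _ hb : ↥(isometryGroup F Q)) : GL ι F) *
        Matrix.GeneralLinearGroup.det ((rI C _ hQw : ↥(isometryGroup F Q)) : GL ι F) = 1 at hs
      rw [det_rI, det_rI, det_rI] at hs
      have h3 : ((-1 : Fˣ) : F) = 1 := by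
        have := congrArg (fun u : Fˣ => (u : F)) hs
        simpa using this
      exact h2 (by rw [Units.val_neg, Units.val_one] at h3; linear_combination -h3)
    · rw [mul_act, rGL_fix C hQw (by rw [C.symm]; exact hpw)]; exact t1.trans hp.symm
    · rw [mul_act, rGL_fix C hQw (by rw [C.symm]; exact hgw)]; exact t2.trans hg.symm
    · rw [mul_act, hw, rGL_act C hQw]
      have e2 : ((Q w)⁻¹ * B w w) • w = (2 : F) • w := by
        rw [C.self]; congr 1; field_simp
      rw [e2, two_smul, sub_add_cancel_left, Matrix.mulVec_neg, t3 w hpw hgw]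

end Cfsg.Lib.Linear.OrthDeg
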